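import Mathlib.GroupTheory.Index
import Mathlib.GroupTheory.Coset.Basic
import Mathlib.GroupTheory.GroupAction.ConjAct
import Mathlib.Algebra.Group.Subgroup.Finite
import Mathlib.GroupTheory.IndexNormal
import Mathlib.Tactic.Group
import Mathlib.Tactic.IntervalCases
import Mathlib.Tactic.Positivity
import Mathlib.Algebra.Order.Ring.Nat

/-!
Cubic chains: the algebra behind Sims' theorem on primitive groups with a subdegree three.
A chain is a sequence of involutions `x i = g ^ i * x 0 * g ^ (-i)` in which any `k ≤ m` consecutive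
members generate a group of order `2 ^ k`, `m + 1` consecutive members generate a group `H` of order
`q * 2 ^ m` with `q` odd (`q = 3` for Sims' theorem), and no nontrivial subgroup of the group generated
by the first `m` members is normalised by `m + 2` consecutive members.
-/

set_option autoImplicit false

namespace CfsgLib.Perm.SubdegreeThree

open Subgroup

variable {G : Type*} [Group G]

/-- The subgroup generated by `x i, …, x (i + k - 1)`. -/
def seg (x : ℕ → G) (i k : ℕ) : Subgroup G := closure (x '' Set.Ico i (i + k))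

/-- A cubic chain. -/
structure Chain (G : Type*) [Group G] where
  /-- the shift -/
  g : G
  /-- the involutions -/
  x : ℕ → G
  /-- the length -/
  m : ℕ
  two_le : 2 ≤ m
  sq : ∀ i, x i * x i = 1
  shift : ∀ i, x (i + 1) = g * x i * g⁻¹
  card_seg : ∀ k, k ≤ m → Nat.card (seg x 0 k) = 2 ^ k
  /-- the odd part of the order of the top segment -/
  q : ℕ
  odd_q : Odd q
  card_top : Nat.card (seg x 0 (m + 1)) = q * 2 ^ m
  core : ∀ N : Subgroup G, N ≤ seg x 0 m →
    (∀ i, i ≤ m + 1 → ∀ n ∈ N, x i * n * x i ∈ N) → N = ⊥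

theorem x_mem (x : ℕ → G) {i k j : ℕ} (h1 : i ≤ j) (h2 : j < i + k) : x j ∈ seg x i k :=
  subset_closure ⟨j, ⟨h1, h2⟩, rfl⟩

theorem seg_le {x : ℕ → G} {i k : ℕ} {K : Subgroup G} (h : ∀ j, i ≤ j → j < i + k → x j ∈ K) :
    seg x i k ≤ K := (closure_le K).mpr (by rintro _ ⟨j, ⟨h1, h2⟩, rfl⟩; exact h j h1 h2)

theorem seg_mono (x : ℕ → G) {i k i' k' : ℕ} (h1 : i' ≤ i) (h2 : i + k ≤ i' + k') :
    seg x i k ≤ seg x i' k' :=
  seg_le fun _ a b => x_mem x (le_trans h1 a) (lt_of_lt_of_le b h2)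

theorem seg_zero (x : ℕ → G) (i : ℕ) : seg x i 0 = ⊥ :=
  le_bot_iff.mp (seg_le fun j a b => by omega)

theorem commute_seg {x : ℕ → G} {y : G} {i k : ℕ}
    (h : ∀ j, i ≤ j → j < i + k → Commute y (x j)) {z : G} (hz : z ∈ seg x i k) : Commute y z :=
  (mem_centralizer_singleton_iff.mp ((seg_le (K := centralizer {y}) fun j a b =>
    mem_centralizer_singleton_iff.mpr (h j a b).eq.symm) hz)).symm

/-- A subgroup is preserved by conjugation with `y` as soon as generators are. -/
theorem conj_seg_mem {x : ℕ → G} {y : G} {i k : ℕ} (hy : y * y = 1) {K : Subgroup G}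
    (h : ∀ j, i ≤ j → j < i + k → y * x j * y ∈ K) {z : G} (hz : z ∈ seg x i k) : y * z * y ∈ K := by
  have hyi : y⁻¹ = y := inv_eq_of_mul_eq_one_right hy
  have : seg x i k ≤ K.comap (MulAut.conj y).toMonoidHom := seg_le fun j a b => by
    show y * x j * y⁻¹ ∈ K
    rw [hyi]; exact h j a b
  have h1 : y * z * y⁻¹ ∈ K := this hz
  rwa [hyi] at h1

namespace Chain

variable (C : Chain G)

/-- Shorthand for segments. -/
def X (i k : ℕ) : Subgroup G := seg C.x i k

theorem inv_x (i : ℕ) : (C.x i)⁻¹ = C.x i := inv_eq_of_mul_eq_one_right (C.sq i)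

theorem shift_pow (i j : ℕ) : C.x (i + j) = C.g ^ j * C.x i * (C.g ^ j)⁻¹ := by
  induction j with
  | zero => simp
  | succ j ih => rw [← Nat.add_assoc, C.shift, ih, pow_succ']; group

theorem map_conj_seg (i k j : ℕ) :
    (C.X i k).map (MulAut.conj (C.g ^ j)).toMonoidHom = C.X (i + j) k := by
  rw [X, seg, MonoidHom.map_closure, X, seg, ← Set.image_comp]
  congr 1
  ext y
  constructor
  · rintro ⟨a, ⟨h1, h2⟩, rfl⟩
    exact ⟨a + j, ⟨by omega, by omega⟩, (C.shift_pow a j).trans rfl⟩
  · rintro ⟨a, ⟨h1, h2⟩, rfl⟩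
    refine ⟨a - j, ⟨by omega, by omega⟩, ?_⟩
    conv_rhs => rw [show a = a - j + j by omega, C.shift_pow]
    rfl

theorem card_X (i k : ℕ) (hk : k ≤ C.m) : Nat.card (C.X i k) = 2 ^ k := by
  rw [← zero_add i, ← C.map_conj_seg 0 k i,
    Subgroup.card_map_of_injective (MulAut.conj (C.g ^ i)).injective]
  exact C.card_seg k hk

theorem card_X_top (i : ℕ) : Nat.card (C.X i (C.m + 1)) = C.q * 2 ^ C.m := by
  rw [← zero_add i, ← C.map_conj_seg 0 (C.m + 1) i,
    Subgroup.card_map_of_injective (MulAut.conj (C.g ^ i)).injective]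
  exact C.card_top

theorem finite_X {i k : ℕ} (hk : k ≤ C.m) : Finite (C.X i k) :=
  Nat.finite_of_card_ne_zero (by rw [C.card_X i k hk]; positivity)

theorem mem_succ {i k : ℕ} : C.x i ∈ C.X i (k + 1) := x_mem _ le_rfl (by omega)

theorem not_mem_left {i k : ℕ} (hk : k + 1 ≤ C.m) : C.x i ∉ C.X (i + 1) k := by
  intro h
  have hle : C.X i (k + 1) ≤ C.X (i + 1) k := seg_le fun j a b => by
    rcases eq_or_lt_of_le a with rfl | a'
    · exact h
    · exact x_mem _ a' (by omega)
  have := C.finite_X (i := i + 1) (show k ≤ C.m by omega)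
  have h1 := Subgroup.card_le_of_le hle
  rw [C.card_X i _ hk, C.card_X _ _ (by omega)] at h1
  have : 2 ^ k < 2 ^ (k + 1) := Nat.pow_lt_pow_right one_lt_two (by omega)
  omega

theorem not_mem_right {i k : ℕ} (hk : k + 1 ≤ C.m) : C.x (i + k) ∉ C.X i k := by
  intro h
  have hle : C.X i (k + 1) ≤ C.X i k := seg_le fun j a b => by
    rcases eq_or_lt_of_le (show j ≤ i + k by omega) with rfl | a'
    · exact h
    · exact x_mem _ a (by omega)
  have := C.finite_X (i := i) (show k ≤ C.m by omega)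
  have h1 := Subgroup.card_le_of_le hle
  rw [C.card_X i _ hk, C.card_X _ _ (by omega)] at h1
  have : 2 ^ k < 2 ^ (k + 1) := Nat.pow_lt_pow_right one_lt_two (by omega)
  omega

theorem relIndex_two {i k a : ℕ} (hk : k + 1 ≤ C.m) (h : C.X a k ≤ C.X i (k + 1)) :
    (C.X a k).relIndex (C.X i (k + 1)) = 2 := by
  have h1 := relIndex_mul_relIndex _ _ _ (bot_le : (⊥ : Subgroup G) ≤ C.X a k) h
  rw [relIndex_bot_left, relIndex_bot_left, C.card_X _ _ hk, C.card_X _ _ (by omega), pow_succ] at h1
  exact Nat.eq_of_mul_eq_mul_left (by positivity) h1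

/-- Peeling off the last generator. -/
theorem mem_or_right {i k : ℕ} (hk : k + 1 ≤ C.m) {s : G} (hs : s ∈ C.X i (k + 1)) :
    s ∈ C.X i k ∨ s * C.x (i + k) ∈ C.X i k := by
  have hle : C.X i k ≤ C.X i (k + 1) := seg_mono _ le_rfl (by omega)
  by_cases h : s ∈ C.X i k
  · exact Or.inl h
  right
  have hi := C.relIndex_two hk hle
  have h2 := (mul_mem_iff_of_index_two (H := (C.X i k).subgroupOf (C.X i (k + 1))) hi
    (a := ⟨s, hs⟩) (b := ⟨C.x (i + k), x_mem _ (by omega) (by omega)⟩)).mpr
    ⟨fun h' => absurd (mem_subgroupOf.mp h') h, fun h' => absurd (mem_subgroupOf.mp h') (C.not_mem_right hk)⟩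
  exact mem_subgroupOf.mp h2

/-- Peeling off the first generator. -/
theorem mem_or_left {i k : ℕ} (hk : k + 1 ≤ C.m) {s : G} (hs : s ∈ C.X i (k + 1)) :
    s ∈ C.X (i + 1) k ∨ C.x i * s ∈ C.X (i + 1) k := by
  have hle : C.X (i + 1) k ≤ C.X i (k + 1) := seg_mono _ (by omega) (by omega)
  by_cases h : s ∈ C.X (i + 1) k
  · exact Or.inl h
  right
  have hi := C.relIndex_two hk hle
  have h2 := (mul_mem_iff_of_index_two (H := (C.X (i + 1) k).subgroupOf (C.X i (k + 1))) hi
    (a := ⟨C.x i, C.mem_succ⟩) (b := ⟨s, hs⟩)).mpr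
    ⟨fun h' => absurd (mem_subgroupOf.mp h') (C.not_mem_left hk), fun h' => absurd (mem_subgroupOf.mp h') h⟩
  exact mem_subgroupOf.mp h2

/-- Two segments of the same group meet in the common segment. -/
theorem inf_seg {i k : ℕ} (hk : k + 2 ≤ C.m) {s : G} (h1 : s ∈ C.X i (k + 1))
    (h2 : s ∈ C.X (i + 1) (k + 1)) : s ∈ C.X (i + 1) k := by
  rcases C.mem_or_left (show k + 1 ≤ C.m by omega) h1 with h | h
  · exact h
  exfalso
  apply C.not_mem_left (i := i) (k := k + 1) (by omega)
  have h' : C.x i * s ∈ C.X (i + 1) (k + 1) := seg_mono C.x le_rfl (by omega) h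
  have := mul_mem h' (inv_mem h2)
  rwa [mul_inv_cancel_right] at this

/-- Elementwise commutator, written with involutions. -/
def cm (i j : ℕ) : G := C.x i * C.x j * C.x i * C.x j

theorem cm_eq_one_iff (i j : ℕ) : C.cm i j = 1 ↔ Commute (C.x i) (C.x j) := by
  rw [cm, mul_eq_one_iff_eq_inv, C.inv_x, commute_iff_eq]
  constructor
  · intro h
    calc C.x i * C.x j = C.x i * C.x j * C.x i * C.x i := by rw [mul_assoc _ (C.x i), C.sq, mul_one]
      _ = C.x j * C.x i := by rw [h]
  · intro h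
    rw [h, mul_assoc, C.sq, mul_one]

theorem cm_shift (i j n : ℕ) : C.cm (i + n) (j + n) = C.g ^ n * C.cm i j * (C.g ^ n)⁻¹ := by
  simp only [cm, C.shift_pow]; group

theorem cm_mem {i d : ℕ} (hd : 1 ≤ d) (hdm : d + 1 ≤ C.m) :
    C.cm i (i + d) ∈ C.X (i + 1) (d - 1) := by
  have hxi : C.x i ∈ C.X i (d + 1) := C.mem_succ
  have hxj : C.x (i + d) ∈ C.X i (d + 1) := x_mem _ (by omega) (by omega)
  have key : ∀ a, C.X a d ≤ C.X i (d + 1) → ∀ s ∈ C.X a d, ∀ y ∈ C.X i (d + 1), y * s * y⁻¹ ∈ C.X a d := by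
    intro a hle s hs y hy
    have := Subgroup.normal_of_index_eq_two (H := (C.X a d).subgroupOf (C.X i (d + 1))) (C.relIndex_two hdm hle)
    have h := this.conj_mem ⟨s, hle hs⟩ (mem_subgroupOf.mpr hs) ⟨y, hy⟩
    exact mem_subgroupOf.mp h
  obtain ⟨e, rfl⟩ : ∃ e, d = e + 1 := ⟨d - 1, by omega⟩
  simp only [Nat.add_sub_cancel]
  refine C.inf_seg (by omega) (i := i) ?_ ?_
  · have h1 : C.x i ∈ C.X i (e + 1) := x_mem _ le_rfl (by omega)
    have h2 := key i (seg_mono _ le_rfl (by omega)) _ h1 _ hxj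
    rw [C.inv_x] at h2
    have : C.cm i (i + (e + 1)) = C.x i * (C.x (i + (e + 1)) * C.x i * C.x (i + (e + 1))) := by
      simp only [cm, mul_assoc]
    rw [this]
    exact mul_mem h1 h2
  · have h1 : C.x (i + (e + 1)) ∈ C.X (i + 1) (e + 1) := x_mem _ (by omega) (by omega)
    have h2 := key (i + 1) (seg_mono _ (by omega) (by omega)) _ h1 _ hxi
    rw [C.inv_x] at h2
    exact mul_mem h2 h1

theorem commute_shift {i d : ℕ} : Commute (C.x i) (C.x (i + d)) ↔ Commute (C.x 0) (C.x d) := by
  have h := C.cm_shift 0 d i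
  rw [zero_add, Nat.add_comm d i] at h
  rw [← C.cm_eq_one_iff, ← C.cm_eq_one_iff, h, mul_inv_eq_one, mul_eq_left]

/-- All commutation at distance at most `l`. -/
def Comm (l : ℕ) : Prop := ∀ d, d ≤ l → Commute (C.x 0) (C.x d)

theorem comm_near {l i j : ℕ} (h : C.Comm l) (h1 : j ≤ i + l) (h2 : i ≤ j + l) :
    Commute (C.x i) (C.x j) := by
  rcases le_total i j with hij | hij
  · obtain ⟨d, rfl⟩ : ∃ d, j = i + d := ⟨j - i, by omega⟩
    exact C.commute_shift.mpr (h d (by omega))
  · obtain ⟨d, rfl⟩ : ∃ d, i = j + d := ⟨i - j, by omega⟩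
    exact (C.commute_shift.mpr (h d (by omega))).symm

theorem comm_one : C.Comm 1 := by
  intro d hd
  interval_cases d
  · exact Commute.refl _
  · have := C.cm_mem (i := 0) (d := 1) le_rfl C.two_le
    rw [Nat.sub_self, X, seg_zero, mem_bot] at this
    exact (C.cm_eq_one_iff _ _).mp this

theorem x_ne_one (i : ℕ) : C.x i ≠ 1 := fun h => by
  have := C.not_mem_left (i := i) (k := 0) (by have := C.two_le; omega)
  rw [h] at this
  exact this (one_mem _)

theorem not_two_central {j : ℕ} (hj : j + 1 < C.m)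
    (h0 : ∀ i, i ≤ C.m → Commute (C.x j) (C.x i))
    (h1 : ∀ i, i ≤ C.m → Commute (C.x (j + 1)) (C.x i)) : False := by
  have hmem : C.x (j + 1) ∈ seg C.x 0 C.m := x_mem _ (Nat.zero_le _) (by omega)
  have hall : ∀ i, i ≤ C.m + 1 → Commute (C.x (j + 1)) (C.x i) := by
    intro i hi
    rcases Nat.eq_zero_or_pos i with rfl | hi0
    · exact h1 0 (Nat.zero_le _)
    · obtain ⟨e, rfl⟩ : ∃ e, i = e + 1 := ⟨i - 1, by omega⟩
      rw [C.shift, C.shift, commute_iff_eq]
      have := (h0 e (by omega)).eq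
      calc C.g * C.x j * C.g⁻¹ * (C.g * C.x e * C.g⁻¹) = C.g * (C.x j * C.x e) * C.g⁻¹ := by group
        _ = C.g * (C.x e * C.x j) * C.g⁻¹ := by rw [this]
        _ = _ := by group
  have := C.core (zpowers (C.x (j + 1))) (zpowers_le.mpr hmem) (by
    intro i hi n hn
    obtain ⟨z, rfl⟩ := mem_zpowers_iff.mp hn
    rw [((hall i hi).zpow_left z).eq.symm, mul_assoc, C.sq, mul_one]
    exact zpow_mem (mem_zpowers _) z)
  rw [zpowers_eq_bot] at this
  exact C.x_ne_one _ this

theorem upper {l : ℕ} (h : C.Comm l) (hl : l + 1 ≤ C.m) : 2 * l ≤ C.m := by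
  by_contra hlt
  have := C.two_le
  exact C.not_two_central (j := C.m - l) (by omega)
    (fun i hi => C.comm_near h (by omega) (by omega))
    (fun i hi => C.comm_near h (by omega) (by omega))

theorem conj_mul_self {a b : G} (ha : a * a = 1) : a * (a * b * a) * a = b := by
  calc a * (a * b * a) * a = (a * a) * b * (a * a) := by group
    _ = b := by rw [ha, one_mul, mul_one]

/-- The lower end of the first nontrivial commutator. -/
theorem lower {l r : ℕ} (h : C.Comm l) (hl : l + 2 ≤ C.m) (hq : ¬ Commute (C.x 0) (C.x (l + 1)))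
    (hr1 : 1 ≤ r) (hrl : r ≤ l) (hz : C.cm 0 (l + 1) ∈ C.X r (l + 1 - r))
    (hz' : C.cm 0 (l + 1) ∉ C.X (r + 1) (l - r)) : C.m ≤ r + (l + 1) := by
  by_contra hlt
  set q := l + 1 with hqdef
  set z := C.cm 0 q with hzdef
  set y := C.x (r + q) with hydef
  set w := C.cm 0 (r + q) with hwdef
  have hw : w ∈ C.X 1 (r + q - 1) := by
    have := C.cm_mem (i := 0) (d := r + q) (by omega) (by omega)
    simpa [hwdef] using this
  have hy0 : y * C.x 0 * y = C.x 0 * w := by
    rw [hwdef, cm, ← hydef]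
    simp only [← mul_assoc, C.sq, one_mul]
  have hyq : Commute y (C.x q) := C.comm_near h (by omega) (by omega)
  have hwq : Commute (C.x q) w := commute_seg (fun j a b => C.comm_near h (by omega) (by omega)) hw
  have hzw : Commute w z := (commute_seg (fun j a b => (commute_seg (fun j' a' b' =>
    C.comm_near h (by omega) (by omega)) hw).symm) hz)
  have hyy : y * y = 1 := C.sq _
  have hww : C.x 0 * w * (C.x 0 * w) = 1 := by
    rw [← hy0]
    calc y * C.x 0 * y * (y * C.x 0 * y) = y * (C.x 0 * ((y * y) * C.x 0)) * y := by group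
      _ = 1 := by rw [hyy, one_mul, C.sq, mul_one, hyy]
  have hyx : y * C.x q * y = C.x q := by rw [hyq.eq, mul_assoc, hyy, mul_one]
  have hyz : y * z * y = z := by
    have e : y * z * y = (y * C.x 0 * y) * (y * C.x q * y) * (y * C.x 0 * y) * (y * C.x q * y) := by
      rw [hzdef, cm]
      calc y * (C.x 0 * C.x q * C.x 0 * C.x q) * y
          = y * C.x 0 * (y * y) * C.x q * (y * y) * C.x 0 * (y * y) * C.x q * y := by rw [hyy]; group
        _ = _ := by group
    rw [e, hyx, hy0]
    have hw0 : C.x 0 * w * C.x 0 = w⁻¹ := by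
      apply eq_inv_of_mul_eq_one_left
      calc C.x 0 * w * C.x 0 * w = C.x 0 * w * (C.x 0 * w) := by group
        _ = 1 := hww
    calc C.x 0 * w * C.x q * (C.x 0 * w) * C.x q
        = C.x 0 * (w * C.x q) * C.x 0 * (w * C.x q) := by group
      _ = C.x 0 * (C.x q * w) * C.x 0 * (C.x q * w) := by rw [hwq.eq.symm]
      _ = C.x 0 * C.x q * C.x 0 * (C.x 0 * w * C.x 0) * C.x q * w := by
          rw [show C.x 0 * C.x q * C.x 0 * (C.x 0 * w * C.x 0) =
            C.x 0 * C.x q * ((C.x 0 * C.x 0) * w * C.x 0) by group, C.sq, one_mul]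
          group
      _ = C.x 0 * C.x q * C.x 0 * (C.x q * w⁻¹) * w := by rw [hw0, mul_assoc _ w⁻¹, hwq.inv_right.eq.symm]
      _ = z := by rw [hzdef, cm]; group
  -- peel `x r` off `z`
  have hu : C.x r * z ∈ C.X (r + 1) (l - r) := by
    rcases C.mem_or_left (i := r) (k := l - r) (by omega) (by rwa [show l - r + 1 = q - r by omega]) with h' | h'
    · exact absurd h' hz'
    · exact h'
  set u := C.x r * z with hudef
  have hyu : Commute y u := commute_seg (fun j a b => C.comm_near h (by omega) (by omega)) hu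
  apply hq
  rw [← C.commute_shift (i := r)]
  show Commute (C.x r) (C.x (r + q))
  rw [← hydef]
  have hxr : C.x r = u * z⁻¹ := by rw [hudef, mul_inv_cancel_right]
  have hyzc : Commute y z := by
    rw [commute_iff_eq]
    calc y * z = y * z * (y * y) := by rw [hyy, mul_one]
      _ = z * y := by rw [← mul_assoc, hyz]
  rw [hxr]
  exact (hyu.mul_right hyzc.inv_right).symm

/-- The upper end of the first nontrivial commutator. -/
theorem lower' {l t : ℕ} (h : C.Comm l) (hl : l + 2 ≤ C.m) (hq : ¬ Commute (C.x 0) (C.x (l + 1)))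
    (ht1 : 1 ≤ t) (htl : t ≤ l) (hz : C.cm 0 (l + 1) ∈ C.X 1 t)
    (hz' : C.cm 0 (l + 1) ∉ C.X 1 (t - 1)) : C.m + t ≤ 2 * (l + 1) := by
  by_contra hlt
  set q := l + 1 with hqdef
  set s := q - t with hsdef
  set z := C.cm s (q + s) with hzdef
  have hconj : ∀ k, C.cm 0 q ∈ C.X 1 k → z ∈ C.X (1 + s) k := by
    intro k hk
    rw [← C.map_conj_seg 1 k s]
    refine ⟨_, hk, ?_⟩
    have := C.cm_shift 0 q s
    rw [zero_add] at this
    rw [hzdef, this]; rfl
  have hzt : z ∈ C.X (1 + s) t := hconj t hz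
  have hznt : z ∉ C.X (1 + s) (t - 1) := by
    intro hh
    apply hz'
    rw [← C.map_conj_seg 1 (t - 1) s] at hh
    obtain ⟨w, hw, hwz⟩ := hh
    have e := C.cm_shift 0 q s
    rw [zero_add, ← hzdef] at e
    rw [e] at hwz
    have : w = C.cm 0 q := (MulAut.conj (C.g ^ s)).injective hwz
    rwa [← this]
  set y := C.x 0 with hydef
  set w := C.cm (q + s) 0 with hwdef
  have hw : w ∈ C.X 1 (q + s - 1) := by
    have := C.cm_mem (i := 0) (d := q + s) (by omega) (by omega)
    rw [zero_add, zero_add] at this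
    have e : w = (C.cm 0 (q + s))⁻¹ := by
      rw [hwdef, cm, cm]
      simp only [mul_inv_rev, C.inv_x, mul_assoc]
    rw [e]
    exact inv_mem this
  have hy1 : y * C.x (q + s) * y = C.x (q + s) * w := by
    rw [hwdef, cm, hydef]
    simp only [← mul_assoc, C.sq, one_mul]
  have hys : Commute y (C.x s) := C.comm_near h (by omega) (by omega)
  have hws : Commute (C.x s) w := commute_seg (fun j a b => C.comm_near h (by omega) (by omega)) hw
  have hzw : Commute w z := (commute_seg (fun j a b => (commute_seg (fun j' a' b' =>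
    C.comm_near h (by omega) (by omega)) hw).symm) hzt)
  have hyy : y * y = 1 := C.sq _
  have hyx : y * C.x s * y = C.x s := by rw [hys.eq, mul_assoc, hyy, mul_one]
  set X' := C.x (q + s) with hX'
  have hww : X' * w * (X' * w) = 1 := by
    rw [← hy1]
    calc y * X' * y * (y * X' * y) = y * (X' * ((y * y) * X')) * y := by group
      _ = 1 := by rw [hyy, one_mul, hX', C.sq, mul_one, hyy]
  have hyz : y * z * y = z := by
    have e : y * z * y = (y * C.x s * y) * (y * X' * y) * (y * C.x s * y) * (y * X' * y) := by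
      rw [hzdef, cm, ← hX']
      calc y * (C.x s * X' * C.x s * X') * y
          = y * C.x s * (y * y) * X' * (y * y) * C.x s * (y * y) * X' * y := by rw [hyy]; group
        _ = _ := by group
    rw [e, hyx, hy1]
    have hw0 : X' * w * X' = w⁻¹ := by
      apply eq_inv_of_mul_eq_one_left
      calc X' * w * X' * w = X' * w * (X' * w) := by group
        _ = 1 := hww
    calc C.x s * (X' * w) * C.x s * (X' * w)
        = C.x s * X' * (w * C.x s) * X' * w := by group
      _ = C.x s * X' * (C.x s * w) * X' * w := by rw [hws.eq.symm]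
      _ = C.x s * X' * C.x s * X' * ((X' * w * X') * w) := by
          rw [show C.x s * X' * C.x s * X' * ((X' * w * X') * w) =
            C.x s * X' * C.x s * ((X' * X') * w * X' * w) by group, hX', C.sq, one_mul]
          group
      _ = z := by rw [hw0, inv_mul_cancel, mul_one, hzdef, cm]
  have hu : z * C.x q ∈ C.X (1 + s) (t - 1) := by
    rcases C.mem_or_right (i := 1 + s) (k := t - 1) (by omega) (by rwa [show t - 1 + 1 = t by omega]) with h' | h'
    · exact absurd h' hznt
    · rwa [show 1 + s + (t - 1) = q by omega] at h'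
  set u := z * C.x q with hudef
  have hyu : Commute y u := commute_seg (fun j a b => C.comm_near h (by omega) (by omega)) hu
  have hyzc : Commute y z := by
    rw [commute_iff_eq]
    calc y * z = y * z * (y * y) := by rw [hyy, mul_one]
      _ = z * y := by rw [← mul_assoc, hyz]
  apply hq
  have hxq : C.x q = z⁻¹ * u := by rw [hudef, inv_mul_cancel_left]
  rw [hxq]
  exact hyzc.inv_right.mul_right hyu

/-- The first distance at which commutation fails, and the ends of that commutator. -/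
theorem exists_ends (h3 : 3 ≤ C.m) : ∃ l r t, C.Comm l ∧ 1 ≤ l ∧ l + 2 ≤ C.m ∧
    ¬ Commute (C.x 0) (C.x (l + 1)) ∧ 1 ≤ r ∧ r ≤ t ∧ t ≤ l ∧
    C.cm 0 (l + 1) ∈ C.X r (t + 1 - r) ∧
    2 * l ≤ C.m ∧ C.m ≤ r + (l + 1) ∧ C.m + t ≤ 2 * (l + 1) := by
  classical
  have hex : ∃ d, d + 1 ≤ C.m ∧ ¬ Commute (C.x 0) (C.x d) := by
    by_contra hcon
    simp only [not_exists, not_and, not_not] at hcon
    have hc : C.Comm (C.m - 1) := fun d hd => hcon d (by omega)
    have := C.upper hc (by omega)
    omega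
  set q := Nat.find hex with hqdef
  obtain ⟨hqm, hq⟩ := Nat.find_spec hex
  have hmin : ∀ d, d < q → Commute (C.x 0) (C.x d) := fun d hd => by
    by_contra h
    exact Nat.find_min hex hd ⟨by omega, h⟩
  have hq2 : 2 ≤ q := by
    by_contra h
    exact hq (C.comm_one q (by omega))
  obtain ⟨l, hl⟩ : ∃ l, q = l + 1 := ⟨q - 1, by omega⟩
  rw [← hqdef] at hqm hq
  rw [hl] at hqm hq hmin
  have hc : C.Comm l := fun d hd => hmin d (by omega)
  have hz : C.cm 0 (l + 1) ∈ C.X 1 l := by
    have := C.cm_mem (i := 0) (d := l + 1) (by omega) hqm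
    simpa using this
  have hne : C.cm 0 (l + 1) ≠ 1 := fun h => hq ((C.cm_eq_one_iff _ _).mp h)
  set z := C.cm 0 (l + 1) with hzdef
  have hr : ∃ r, 1 ≤ r ∧ r ≤ l ∧ z ∈ C.X r (l + 1 - r) ∧ z ∉ C.X (r + 1) (l - r) := by
    have hexr : ∃ r, z ∉ C.X (r + 1) (l - r) := ⟨l, by rw [Nat.sub_self, X, seg_zero, mem_bot]; exact hne⟩
    have hle : Nat.find hexr ≤ l := Nat.find_le (by rw [Nat.sub_self, X, seg_zero, mem_bot]; exact hne)
    have h0 : 1 ≤ Nat.find hexr := by
      by_contra h0
      have := Nat.find_spec hexr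
      rw [show Nat.find hexr = 0 by omega] at this
      exact this (by simpa using hz)
    refine ⟨Nat.find hexr, h0, hle, ?_, Nat.find_spec hexr⟩
    have := Nat.find_min hexr (show Nat.find hexr - 1 < Nat.find hexr by omega)
    rw [not_not, show Nat.find hexr - 1 + 1 = Nat.find hexr by omega,
      show l - (Nat.find hexr - 1) = l + 1 - Nat.find hexr by omega] at this
    exact this
  obtain ⟨r, hr1, hrl, hzr, hzr'⟩ := hr
  have ht : ∃ t, t ≤ l ∧ z ∈ C.X 1 t ∧ ∀ t', t' < t → z ∉ C.X 1 t' := by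
    have hext : ∃ t, z ∈ C.X 1 t := ⟨l, hz⟩
    exact ⟨Nat.find hext, Nat.find_le hz, Nat.find_spec hext, fun t' h => Nat.find_min hext h⟩
  obtain ⟨t, htl, hzt, htmin⟩ := ht
  have ht1 : 1 ≤ t := by
    by_contra h
    rw [show t = 0 by omega, X, seg_zero, mem_bot] at hzt
    exact hne hzt
  -- the intersection of `[r, l]` and `[1, t]`
  have hint : ∀ k, r + k ≤ t + 1 → z ∈ C.X (r + k) (l + 1 - (r + k)) → k = 0 := by
    intro k hk hzk
    by_contra hk0
    exact hzr' (seg_mono C.x (by omega) (by omega) hzk)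
  have hrt : r ≤ t ∧ z ∈ C.X r (t + 1 - r) := by
    have key : ∀ a, a + 1 ≤ r → z ∈ C.X (a + 1) (t - a) := by
      intro a
      induction a with
      | zero => intro _; simpa using hzt
      | succ a ih =>
        intro ha
        have h1 := ih (by omega)
        have h2 : z ∈ C.X (a + 2) (l - (a + 1)) :=
          seg_mono C.x (by omega) (by omega) hzr
        have hat : a + 1 ≤ t := by
          by_contra hcon
          rw [show t - a = 0 by omega, X, seg_zero, mem_bot] at h1
          exact hne h1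
        have h3 : z ∈ C.X (a + 2) (l - (a + 1)) := h2
        rcases C.mem_or_left (i := a + 1) (k := t - (a + 1)) (by omega)
          (by rwa [show t - (a + 1) + 1 = t - a by omega]) with h | h
        · exact h
        · exfalso
          apply C.not_mem_left (i := a + 1) (k := l - (a + 1)) (by omega)
          have h4 : C.x (a + 1) * z ∈ C.X (a + 2) (l - (a + 1)) := seg_mono C.x le_rfl (by omega) h
          have := mul_mem h4 (inv_mem h3)
          rwa [mul_inv_cancel_right] at this
    have h1 := key (r - 1) (by omega)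
    rw [show r - 1 + 1 = r by omega, show t - (r - 1) = t + 1 - r by omega] at h1
    refine ⟨?_, h1⟩
    by_contra hcon
    rw [show t + 1 - r = 0 by omega, X, seg_zero, mem_bot] at h1
    exact hne h1
  exact ⟨l, r, t, hc, by omega, by omega, hq, hr1, hrt.1, htl, hrt.2, C.upper hc (by omega),
    C.lower hc (by omega) hq hr1 hrl hzr hzr', C.lower' hc (by omega) hq ht1 htl hzt (htmin (t - 1) (by omega))⟩

theorem m_le_four : C.m ≤ 4 := by
  by_contra h5
  obtain ⟨l, r, t, hc, hl1, hlm, hq, hr1, hrt, htl, hz, hup, hlo, hhi⟩ := C.exists_ends (by omega)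
  have hm : C.m = 6 := by omega
  have hl : l = 3 := by omega
  have hr : r = 2 := by omega
  have ht : t = 2 := by omega
  subst hl hr ht
  set w := C.cm 0 5 with hwdef
  have hw : w ∈ C.X 1 4 := by
    have := C.cm_mem (i := 0) (d := 5) (by omega) (by omega)
    simpa using this
  have hab : ∀ a b, a ∈ C.X 1 4 → b ∈ C.X 1 4 → Commute a b := fun a b ha hb =>
    commute_seg (fun j _ _ => (commute_seg (fun j' _ _ => C.comm_near hc (by omega) (by omega)) ha).symm) hb
  have hz2 : C.cm 0 4 ∈ C.X 2 1 := by simpa using hz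
  have hz2' : C.cm 0 4 = C.x 2 := by
    rcases C.mem_or_right (i := 2) (k := 0) (by omega) hz2 with h | h
    · rw [X, seg_zero, mem_bot] at h
      exact absurd ((C.cm_eq_one_iff _ _).mp h) hq
    · rw [X, seg_zero, mem_bot] at h
      rw [eq_inv_of_mul_eq_one_left h]
      exact C.inv_x 2
  have hw2 : w * w = 1 := by
    have hsq : ∀ z ∈ C.X 1 4, z * z = 1 := by
      intro z hz
      induction hz using closure_induction with
      | mem a ha => obtain ⟨j, -, rfl⟩ := ha; exact C.sq j
      | one => simp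
      | mul a b ha hb iha ihb =>
        calc a * b * (a * b) = a * (b * a) * b := by group
          _ = a * (a * b) * b := by rw [(hab b a hb ha).eq]
          _ = (a * a) * (b * b) := by group
          _ = 1 := by rw [iha, ihb, one_mul]
      | inv a ha iha => rw [← mul_inv_rev, iha, inv_one]
    exact hsq w hw
  have hinv : ∀ i j, (C.cm i j)⁻¹ = C.cm j i := fun i j => by
    simp only [cm, mul_inv_rev, C.inv_x, mul_assoc]
  have hc0 : Commute (C.x 0) w := by
    rw [commute_iff_eq]
    have h1 : C.x 0 * w * C.x 0 = (C.x 5 * C.x 0 * C.x 5 * C.x 0) := by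
      rw [hwdef, cm]; simp only [← mul_assoc, C.sq, one_mul]
    have h2 : C.x 0 * w * C.x 0 = w := by
      rw [h1, ← cm, ← hinv 0 5, ← hwdef]
      exact inv_eq_of_mul_eq_one_right hw2
    calc C.x 0 * w = C.x 0 * w * C.x 0 * C.x 0 := by rw [mul_assoc _ (C.x 0), C.sq, mul_one]
      _ = w * C.x 0 := by rw [h2]
  have hc5 : Commute (C.x 5) w := by
    rw [commute_iff_eq]
    have h1 : C.x 5 * w * C.x 5 = (C.x 5 * C.x 0 * C.x 5 * C.x 0) := by
      rw [hwdef, cm]; simp only [mul_assoc, C.sq, mul_one]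
    have h2 : C.x 5 * w * C.x 5 = w := by
      rw [h1, ← cm, ← hinv 0 5, ← hwdef]
      exact inv_eq_of_mul_eq_one_right hw2
    calc C.x 5 * w = C.x 5 * w * C.x 5 * C.x 5 := by rw [mul_assoc _ (C.x 5), C.sq, mul_one]
      _ = w * C.x 5 := by rw [h2]
  have hw13 : w ∈ C.X 1 3 := by
    rcases C.mem_or_right (i := 1) (k := 3) (by omega) hw with h | h
    · exact h
    · exfalso
      apply hq
      have hu : Commute (C.x 0) (w * C.x (1 + 3)) := commute_seg (fun j a b => C.comm_near hc (by omega) (by omega)) h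
      show Commute (C.x 0) (C.x 4)
      have := hc0.inv_right.mul_right hu
      rwa [inv_mul_cancel_left] at this
  have hw24 : w ∈ C.X 2 3 := by
    rcases C.mem_or_left (i := 1) (k := 3) (by omega) hw with h | h
    · exact h
    · exfalso
      apply hq
      have hu : Commute (C.x 5) (C.x 1 * w) := commute_seg (fun j a b => C.comm_near hc (by omega) (by omega)) h
      have := (hu.mul_right hc5.inv_right)
      rw [mul_inv_cancel_right] at this
      exact (C.commute_shift (i := 1) (d := 4)).mp this.symm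
  have hw23 : w ∈ C.X 2 2 := C.inf_seg (i := 1) (k := 2) (by omega) hw13 hw24
  -- `X 2 4` is normalised by `x 0, …, x 7`
  have hconj : ∀ i j (K : Subgroup G), C.x j ∈ K → C.cm i j ∈ K → C.x i * C.x j * C.x i ∈ K := by
    intro i j K hj hcm
    have e : C.x i * C.x j * C.x i = C.cm i j * C.x j := by rw [cm]; simp only [mul_assoc, C.sq, mul_one]
    rw [e]; exact mul_mem hcm hj
  have hN := C.core (C.X 2 4) (seg_mono C.x (Nat.zero_le _) (by omega)) (by
    intro i hi n hn
    refine conj_seg_mem (C.sq i) (fun j a b => hconj i j _ (x_mem _ a b) ?_) hn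
    by_cases hn' : j ≤ i + 3 ∧ i ≤ j + 3
    · rw [(C.cm_eq_one_iff _ _).mpr (C.comm_near hc hn'.1 hn'.2)]; exact one_mem _
    have cases6 : (i = 0 ∧ j = 4) ∨ (i = 0 ∧ j = 5) ∨ (i = 1 ∧ j = 5) ∨ (i = 6 ∧ j = 2) ∨
        (i = 7 ∧ j = 2) ∨ (i = 7 ∧ j = 3) := by omega
    have hx : ∀ k, 2 ≤ k → k ≤ 5 → C.x k ∈ C.X 2 4 := fun k a b => x_mem _ a (by omega)
    rcases cases6 with ⟨rfl, rfl⟩ | ⟨rfl, rfl⟩ | ⟨rfl, rfl⟩ | ⟨rfl, rfl⟩ | ⟨rfl, rfl⟩ | ⟨rfl, rfl⟩
    · rw [hz2']; exact hx 2 le_rfl (by omega)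
    · exact seg_mono C.x le_rfl (by omega) hw23
    · have e := C.cm_shift 0 4 1
      rw [hz2', ← C.shift_pow 2 1] at e
      rw [show C.cm 1 5 = C.x 3 from e]; exact hx 3 (by omega) (by omega)
    · rw [← hinv 2 6]
      have e := C.cm_shift 0 4 2
      rw [hz2', ← C.shift_pow 2 2] at e
      rw [show C.cm 2 6 = C.x 4 from e]; exact inv_mem (hx 4 (by omega) (by omega))
    · rw [← hinv 2 7]
      refine inv_mem ?_
      have e := C.cm_shift 0 5 2
      have hm' : C.cm 2 7 ∈ C.X 4 2 := by
        rw [← C.map_conj_seg 2 2 2]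
        exact ⟨w, hw23, e.symm⟩
      exact seg_mono C.x (by omega) (by omega) hm'
    · rw [← hinv 3 7]
      have e := C.cm_shift 0 4 3
      rw [hz2', ← C.shift_pow 2 3] at e
      rw [show C.cm 3 7 = C.x 5 from e]; exact inv_mem (hx 5 (by omega) le_rfl))
  apply C.x_ne_one 2
  rw [← mem_bot, ← hN]
  exact x_mem _ le_rfl (by omega)

end Chain

end CfsgLib.Perm.SubdegreeThree
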