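import Cfsg.Agent.Lib.Perm.SubdegreeThree.Chain
import Mathlib.GroupTheory.GroupAction.Primitive
import Mathlib.GroupTheory.GroupAction.Quotient
import Mathlib.GroupTheory.OrderOfElement
import Mathlib.Data.Finite.Perm
import Mathlib.GroupTheory.Perm.Cycle.Type

/-!
From a primitive group with a subdegree three to a cubic chain: the intersections of the point
stabiliser with its first conjugates under an element moving the point along the suborbit.
-/

set_option autoImplicit false

namespace CfsgLib.Perm.SubdegreeThree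

open Subgroup

variable {G : Type*} [Group G]

/-- The conjugate `g S g⁻¹`. -/
def cj (g : G) (S : Subgroup G) : Subgroup G := S.map (MulAut.conj g).toMonoidHom

theorem mem_cj {g x : G} {S : Subgroup G} : x ∈ cj g S ↔ g⁻¹ * x * g ∈ S := by
  rw [cj, mem_map_equiv, MulAut.conj_symm_apply]

theorem cj_mul (a b : G) (S : Subgroup G) : cj (a * b) S = cj a (cj b S) := by
  ext x; simp only [mem_cj, mul_inv_rev, mul_assoc]

theorem cj_one (S : Subgroup G) : cj 1 S = S := by ext x; simp [mem_cj]

theorem card_cj (g : G) (S : Subgroup G) : Nat.card (cj g S) = Nat.card S :=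
  Subgroup.card_map_of_injective (MulAut.conj g).injective

theorem cj_mono (g : G) {A B : Subgroup G} (h : A ≤ B) : cj g A ≤ cj g B := map_mono h

theorem cj_inv_cj (g : G) (S : Subgroup G) : cj g⁻¹ (cj g S) = S := by
  rw [← cj_mul, inv_mul_cancel, cj_one]

theorem cj_self_of_mem {g : G} {S : Subgroup G} (h : g ∈ S) : cj g S = S := by
  ext x
  rw [mem_cj]
  refine ⟨fun hx => ?_, fun hx => mul_mem (mul_mem (inv_mem h) hx) h⟩
  simpa [mul_assoc] using mul_mem (mul_mem h hx) (inv_mem h)

/-- The elements leaving `S` invariant. -/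
def stab (S : Subgroup G) : Subgroup G where
  carrier := {x | cj x S = S}
  one_mem' := cj_one S
  mul_mem' {a b} ha hb := by
    show cj (a * b) S = S
    rw [cj_mul, show cj b S = S from hb, show cj a S = S from ha]
  inv_mem' {a} ha := by
    show cj a⁻¹ S = S
    conv_lhs => rw [← show cj a S = S from ha]
    exact cj_inv_cj a S

theorem mem_stab {S : Subgroup G} {x : G} : x ∈ stab S ↔ cj x S = S := Iff.rfl

/-- Two conjugates differing from each other as soon as they generate. -/
theorem eq_bot_of_stab {H : Subgroup G} (hmax : IsCoatom H)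
    (hcore : ∀ N : Subgroup G, N.Normal → N ≤ H → N = ⊥) {S : Subgroup G} (hS : S ≤ H)
    (hH : H ≤ stab S) {g : G} (hg : g ∉ H) (hgS : g ∈ stab S) : S = ⊥ := by
  have htop : stab S = ⊤ := hmax.2 _ (lt_of_le_not_ge hH fun h => hg (h hgS))
  refine hcore S ⟨fun n hn x => ?_⟩ hS
  have : cj x S = S := by rw [← mem_stab, htop]; exact mem_top x
  rw [← this, mem_cj]
  simpa [mul_assoc] using hn

/-- A subgroup of index three contains the conjugates of its elements of odd order. -/
theorem conj_mem_of_odd {H : Type*} [Group H] [Finite H] {L : Subgroup H} (h3 : L.index = 3)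
    {x : H} (hx : x ∈ L) (hodd : Odd (orderOf x)) (h : H) : h * x * h⁻¹ ∈ L := by
  have hdvd : L.normalCore.index ∣ 6 := by
    have h1 : L.normalCore.index = Nat.card (MulAction.toPermHom H (H ⧸ L)).range := by
      rw [normalCore_eq_ker, index_ker]
    rw [h1]
    have h2 := card_subgroup_dvd_card (MulAction.toPermHom H (H ⧸ L)).range
    rwa [Nat.card_perm, ← index_eq_card, h3, show Nat.factorial 3 = 6 from rfl] at h2
  have hrel : L.normalCore.relIndex L ∣ 2 := by
    have h1 := relIndex_mul_index L.normalCore_le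
    rw [h3] at h1
    rw [← h1] at hdvd
    exact Nat.dvd_of_mul_dvd_mul_right (by norm_num : 0 < 3) (by simpa using hdvd)
  have hx2 : x ^ 2 ∈ L.normalCore := by
    haveI : (L.normalCore.subgroupOf L).Normal := inferInstance
    obtain ⟨c, hc⟩ := hrel
    have h' : x ^ L.normalCore.relIndex L ∈ L.normalCore :=
      mem_subgroupOf.mp ((L.normalCore.subgroupOf L).pow_index_mem ⟨x, hx⟩)
    rw [hc, pow_mul]
    exact pow_mem h' c
  have hx1 : x ∈ L.normalCore := by
    obtain ⟨k, hk⟩ := hodd
    have h' : x ^ (2 * (k + 1)) = x := by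
      rw [show 2 * (k + 1) = orderOf x + 1 by omega, pow_succ, pow_orderOf_eq_one, one_mul]
    rw [← h', pow_mul]
    exact pow_mem hx2 _
  exact L.normalCore_le (L.normalCore_normal.conj_mem x hx1 h)

/-- The intersections `H ∩ gHg⁻¹ ∩ … ∩ gⁿHg⁻ⁿ`. -/
def lay (g : G) (H : Subgroup G) : ℕ → Subgroup G
  | 0 => H
  | n + 1 => lay g H n ⊓ cj g (lay g H n)

theorem lay_succ_le (g : G) (H : Subgroup G) (n : ℕ) : lay g H (n + 1) ≤ lay g H n := inf_le_left

theorem lay_anti (g : G) (H : Subgroup G) {i j : ℕ} (h : i ≤ j) : lay g H j ≤ lay g H i := by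
  induction j, h using Nat.le_induction with
  | base => exact le_rfl
  | succ j _ ih => exact (lay_succ_le g H j).trans ih

theorem cj_inv_lay_le (g : G) (H : Subgroup G) (n : ℕ) :
    cj g⁻¹ (lay g H (n + 1)) ≤ lay g H n := by
  conv_rhs => rw [← cj_inv_cj g (lay g H n)]
  exact cj_mono _ inf_le_right

theorem relIndex_lay_le [Finite G] (g : G) (H : Subgroup G) (n : ℕ) :
    (lay g H (n + 2)).relIndex (lay g H (n + 1)) ≤ (lay g H (n + 1)).relIndex (lay g H n) := by
  have e : (lay g H (n + 1)).relIndex (lay g H n) =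
      (cj g (lay g H (n + 1))).relIndex (cj g (lay g H n)) :=
    (relIndex_map_map_of_injective _ _ (MulAut.conj g).injective).symm
  rw [e]
  show (lay g H (n + 1) ⊓ cj g (lay g H (n + 1))).relIndex (lay g H (n + 1)) ≤ _
  rw [inf_comm, inf_relIndex_right]
  exact relIndex_le_of_le_right inf_le_right index_ne_zero_of_finite

theorem prime_relIndex_eq {A B C : Subgroup G} (hAB : A < B) (hBC : B ≤ C)
    (hp : (A.relIndex C).Prime) : B = C := by
  refine le_antisymm hBC (relIndex_eq_one.mp ?_)
  have h1 := relIndex_mul_relIndex A B C hAB.le hBC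
  rcases (Nat.dvd_prime hp).mp ⟨_, h1.symm⟩ with h | h
  · exact absurd (relIndex_eq_one.mp h) hAB.not_ge
  · rw [h] at h1
    exact (mul_eq_left₀ hp.pos.ne').mp h1

/-- The alternative: a subgroup of order six, or a chain. -/
theorem chain_of_pair [Finite G] {H : Subgroup G} (hmax : IsCoatom H)
    (hcore : ∀ N : Subgroup G, N.Normal → N ≤ H → N = ⊥) {g : G} (hg : g ∉ H)
    (h3 : (H ⊓ cj g H).relIndex H = 3) {e : ℕ} (hL : Nat.card ↥(H ⊓ cj g H) = 2 ^ e)
    (hne : cj g (H ⊓ cj g H) ≠ H ⊓ cj g H) :
    (∃ L : Subgroup H, L.index = 3 ∧ Nat.card L = 2 ∧ ¬ L.Normal) ∨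
      ∃ C : Chain G, C.q = 3 ∧ seg C.x 0 (C.m + 1) = H := by
  classical
  have hl1 : lay g H 1 = H ⊓ cj g H := rfl
  have step1 : ∀ n, 1 ≤ n → (lay g H (n + 1)).relIndex (lay g H n) ≤ 2 := by
    intro n hn
    induction n, hn using Nat.le_induction with
    | base =>
      have h1 := relIndex_lay_le g H 0
      have h2 : (lay g H 1).relIndex (lay g H 0) = 3 := h3
      obtain ⟨j, -, hj⟩ := (Nat.dvd_prime_pow Nat.prime_two).mp
        (hL ▸ (relIndex_dvd_card (H := lay g H 2) (K := lay g H 1)))
      rw [hj] at h1 ⊢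
      rcases j with _ | _ | j
      · norm_num
      · norm_num
      · have : 4 ≤ 2 ^ (j + 2) := by
          calc 4 = 2 ^ 2 := rfl
            _ ≤ _ := Nat.pow_le_pow_right (by norm_num) (by omega)
        simp only [zero_add] at h1
        omega
    | succ n hn ih => exact le_trans (relIndex_lay_le g H n) ih
  -- termination
  have hex : ∃ n, lay g H (n + 1) = lay g H n := by
    by_contra hcon
    simp only [not_exists] at hcon
    have hdec : ∀ n, Nat.card (lay g H n) + n ≤ Nat.card H := by
      intro n
      induction n with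
      | zero => exact le_rfl
      | succ n ih =>
        have h1 : Nat.card (lay g H (n + 1)) < Nat.card (lay g H n) := by
          refine lt_of_le_of_ne (Subgroup.card_le_of_le (lay_succ_le g H n)) fun h => hcon n ?_
          exact eq_of_le_of_card_ge (lay_succ_le g H n) h.ge
        omega
    have := hdec (Nat.card H + 1)
    omega
  set n := Nat.find hex with hn
  have hfix : lay g H (n + 1) = lay g H n := Nat.find_spec hex
  have hmin : ∀ i, i < n → lay g H (i + 1) ≠ lay g H i := fun i hi => Nat.find_min hex hi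
  have hn2 : 2 ≤ n := by
    by_contra h
    rcases (show n = 0 ∨ n = 1 by omega) with h' | h' <;> rw [h'] at hfix
    · rw [zero_add] at hfix
      rw [show lay g H 1 = H ⊓ cj g H from rfl, show lay g H 0 = H from rfl] at hfix
      rw [hfix, relIndex_self] at h3
      omega
    · have h1 : lay g H 1 ≤ cj g (lay g H 1) := by
        conv_lhs => rw [← hfix]
        exact inf_le_right
      exact hne (eq_of_le_of_card_ge h1 (by rw [card_cj])).symm
  have hstep : ∀ i, 1 ≤ i → i < n → (lay g H (i + 1)).relIndex (lay g H i) = 2 := by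
    intro i h1 h2
    have h4 : (lay g H (i + 1)).relIndex (lay g H i) ≠ 1 := fun h =>
      hmin i h2 (le_antisymm (lay_succ_le g H i) (relIndex_eq_one.mp h))
    have h5 : (lay g H (i + 1)).relIndex (lay g H i) ≠ 0 := index_ne_zero_of_finite
    have := step1 i h1
    omega
  -- each layer is generated by the next one and its conjugate
  have hgen : ∀ i, i + 1 < n → lay g H (i + 1) ⊔ cj g⁻¹ (lay g H (i + 1)) = lay g H i := by
    intro i hi
    refine prime_relIndex_eq (A := lay g H (i + 1)) (lt_of_le_of_ne le_sup_left fun h => ?_)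
      (sup_le (lay_succ_le g H i) (cj_inv_lay_le g H i)) ?_
    · have h1 : cj g⁻¹ (lay g H (i + 1)) ≤ lay g H (i + 1) := le_trans le_sup_right h.ge
      have h2 : cj g⁻¹ (lay g H (i + 1)) = lay g H (i + 1) :=
        eq_of_le_of_card_ge h1 (by rw [card_cj])
      refine hmin (i + 1) hi ?_
      show lay g H (i + 1) ⊓ cj g (lay g H (i + 1)) = lay g H (i + 1)
      conv_lhs => arg 2; arg 2; rw [← h2]
      rw [← cj_mul, mul_inv_cancel, cj_one, inf_idem]
    · rcases Nat.eq_zero_or_pos i with rfl | hi0
      · rw [show (lay g H 1).relIndex (lay g H 0) = 3 from h3]; exact Nat.prime_three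
      · rw [hstep i hi0 (by omega)]; exact Nat.prime_two
  have hgfix : cj g (lay g H n) = lay g H n := by
    have h1 : lay g H n ≤ cj g (lay g H n) := by
      conv_lhs => rw [← hfix]
      exact inf_le_right
    exact (eq_of_le_of_card_ge h1 (by rw [card_cj])).symm
  have hnb : lay g H n = ⊥ := by
    have key : ∀ j, j < n → lay g H (n - 1 - j) ≤ stab (lay g H n) := by
      intro j
      induction j with
      | zero =>
        intro _
        rw [Nat.sub_zero]
        have hidx := hstep (n - 1) (by omega) (by omega)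
        rw [show n - 1 + 1 = n by omega] at hidx
        have hle : lay g H n ≤ lay g H (n - 1) := lay_anti g H (by omega)
        have hnor := Subgroup.normal_of_index_eq_two (H := (lay g H n).subgroupOf (lay g H (n - 1))) hidx
        intro x hx
        refine eq_of_le_of_card_ge (fun y hy => ?_) (by rw [card_cj])
        rw [mem_cj] at hy
        have := hnor.conj_mem ⟨_, hle hy⟩ (mem_subgroupOf.mpr hy) ⟨x, hx⟩
        simpa [mem_subgroupOf, mul_assoc] using this
      | succ j ih =>
        intro hj
        have h1 := ih (by omega)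
        rw [show n - 1 - j = n - 1 - (j + 1) + 1 by omega] at h1
        rw [← hgen (n - 1 - (j + 1)) (by omega)]
        refine sup_le h1 fun y hy => ?_
        rw [mem_cj, inv_inv] at hy
        have hgs : g ∈ stab (lay g H n) := hgfix
        have := mul_mem (mul_mem (inv_mem hgs) (h1 hy)) hgs
        simpa [mul_assoc] using this
    have hH := key (n - 1) (by omega)
    rw [Nat.sub_self] at hH
    exact eq_bot_of_stab hmax hcore (lay_anti g H (Nat.zero_le _)) hH hg hgfix
  -- orders
  have hcard : ∀ j, j + 1 ≤ n → Nat.card (lay g H (n - j)) = 2 ^ j := by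
    intro j
    induction j with
    | zero => intro _; rw [Nat.sub_zero, hnb, card_bot, pow_zero]
    | succ j ih =>
      intro hj
      have h1 := hstep (n - (j + 1)) (by omega) (by omega)
      rw [show n - (j + 1) + 1 = n - j by omega] at h1
      have h2 := relIndex_mul_relIndex ⊥ (lay g H (n - j)) (lay g H (n - (j + 1))) bot_le
        (lay_anti g H (by omega))
      rw [relIndex_bot_left, relIndex_bot_left, ih (by omega), h1] at h2
      rw [← h2, pow_succ]
  obtain ⟨m, hm⟩ : ∃ m, n = m + 1 := ⟨n - 1, by omega⟩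
  have hcardH : Nat.card H = 3 * 2 ^ m := by
    have h1 := hcard m (by omega)
    rw [show n - m = 1 by omega] at h1
    have h2 := relIndex_mul_relIndex ⊥ (lay g H 1) (lay g H 0) bot_le (lay_succ_le g H 0)
    rw [relIndex_bot_left, relIndex_bot_left, h1] at h2
    rw [show (lay g H 1).relIndex (lay g H 0) = 3 from h3] at h2
    rw [show lay g H 0 = H from rfl] at h2
    rw [← h2, Nat.mul_comm]
  rcases (show m = 1 ∨ 2 ≤ m by omega) with rfl | hm2
  · left
    refine ⟨(lay g H 1).subgroupOf H, ?_, ?_, ?_⟩
    · exact h3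
    · rw [Nat.card_congr (subgroupOfEquivOfLe (show lay g H 1 ≤ H from lay_succ_le g H 0)).toEquiv]
      have := hcard 1 (by omega)
      rwa [show n - 1 = 1 by omega, pow_one] at this
    · intro hnor
      -- two conjugate subgroups of order two generate
      have hgen0 := hgen 0 (by omega)
      simp only [zero_add] at hgen0
      obtain ⟨y, hy, hy1⟩ : ∃ y ∈ cj g⁻¹ (lay g H 1), y ∉ lay g H 1 := by
        by_contra hcon
        simp only [not_exists, not_and, not_not] at hcon
        rw [sup_eq_left.mpr hcon] at hgen0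
        exact hmin 0 (by omega) hgen0
      have hc2 : Nat.card (lay g H 1) = 2 := by
        have := hcard 1 (by omega)
        rwa [show n - 1 = 1 by omega, pow_one] at this
      -- a normal subgroup of order two is central
      have hcent : ∀ x ∈ lay g H 1, ∀ h ∈ H, h * x * h⁻¹ = x := by
        intro x hx h hh
        have h' : h * x * h⁻¹ ∈ lay g H 1 := by
          have := hnor.conj_mem ⟨x, lay_succ_le g H 0 hx⟩ (mem_subgroupOf.mpr hx) ⟨h, hh⟩
          exact mem_subgroupOf.mp this
        by_cases hx1 : x = 1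
        · simp [hx1]
        by_contra hne'
        have hhx : h * x * h⁻¹ ≠ 1 := fun e => hx1 (conj_eq_one_iff.mp e)
        obtain ⟨a, b, hab, huniv⟩ := Nat.card_eq_two_iff.mp hc2
        have h1 := Set.eq_univ_iff_forall.mp huniv ⟨x, hx⟩
        have h2 := Set.eq_univ_iff_forall.mp huniv ⟨_, h'⟩
        have h3' := Set.eq_univ_iff_forall.mp huniv 1
        simp only [Set.mem_insert_iff, Set.mem_singleton_iff] at h1 h2 h3'
        rcases h1 with h1 | h1 <;> rcases h2 with h2 | h2 <;> rcases h3' with h3' | h3' <;>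
          first
          | exact hne' (congrArg Subtype.val (h2.trans h1.symm))
          | exact hx1 (congrArg Subtype.val (h1.trans h3'.symm))
          | exact hhx (congrArg Subtype.val (h2.trans h3'.symm))
      -- so `H` has a central subgroup of order two inside `lay 1` and its conjugate
      have hyH : y ∈ H := cj_inv_lay_le g H 0 hy
      have hLy : lay g H 1 ≤ stab (lay g H 1) := fun x hx => cj_self_of_mem hx
      have : (lay g H 1).relIndex H = 3 := h3
      have hy2 : y * y = 1 := by
        rw [mem_cj, inv_inv] at hy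
        have h1 : (g * y * g⁻¹) ^ 2 = 1 := by
          have := pow_card_eq_one' (x := (⟨_, hy⟩ : ↥(lay g H 1)))
          rw [hc2] at this
          exact congrArg Subtype.val this
        rwa [pow_two, show g * y * g⁻¹ * (g * y * g⁻¹) = g * (y * y) * g⁻¹ by group,
          conj_eq_one_iff] at h1
      obtain ⟨x, hx, hx1⟩ : ∃ x ∈ lay g H 1, x ≠ 1 := by
        obtain ⟨⟨a, ha⟩, hab⟩ := (haveI : Nontrivial ↥(lay g H 1) := Finite.one_lt_card_iff_nontrivial.mp (by omega); exists_ne (1 : ↥(lay g H 1)))
        exact ⟨a, ha, fun e => hab (Subtype.ext e)⟩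
      -- a Klein four group inside a group of order six
      have hcomm : Commute x y := by
        have := hcent x hx y hyH
        rw [commute_iff_eq]
        calc x * y = y * x * y⁻¹ * y := by rw [this]
          _ = y * x := by group
      have hx2 : x * x = 1 := by
        have := pow_card_eq_one' (x := (⟨x, hx⟩ : ↥(lay g H 1)))
        rw [hc2] at this
        simpa [pow_two] using congrArg Subtype.val this
      let V : Subgroup G :=
        { carrier := {1, x, y, x * y}
          one_mem' := Or.inl rfl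
          mul_mem' := by
            intro a b ha hb
            simp only [Set.mem_insert_iff, Set.mem_singleton_iff] at ha hb ⊢
            have e1 : y * (x * y) = x := by rw [← mul_assoc, hcomm.eq.symm, mul_assoc, hy2, mul_one]
            have e2 : x * y * x = y := by rw [hcomm.eq, mul_assoc, hx2, mul_one]
            have e3 : x * y * (x * y) = 1 := by rw [← mul_assoc, e2, hy2]
            have e4 : x * (x * y) = y := by rw [← mul_assoc, hx2, one_mul]
            have e5 : x * y * y = x := by rw [mul_assoc, hy2, mul_one]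
            rcases ha with rfl | rfl | rfl | rfl <;> rcases hb with rfl | rfl | rfl | rfl <;>
              simp [hx2, hy2, e1, e2, e3, e4, e5, hcomm.eq.symm]
          inv_mem' := by
            intro a ha
            simp only [Set.mem_insert_iff, Set.mem_singleton_iff] at ha ⊢
            rcases ha with rfl | rfl | rfl | rfl <;>
              simp [inv_eq_of_mul_eq_one_right hx2, inv_eq_of_mul_eq_one_right hy2, mul_inv_rev, hcomm.eq.symm] }
      have hVH : V ≤ H := by
        rintro a (rfl | rfl | rfl | rfl)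
        exacts [one_mem _, lay_succ_le g H 0 hx, hyH, mul_mem (lay_succ_le g H 0 hx) hyH]
      have hyx : y ≠ x := fun e => hy1 (e ▸ hx)
      have hy0 : y ≠ 1 := fun e => hy1 (e ▸ one_mem _)
      have hxy0 : x * y ≠ 1 := fun e => hyx (by
        rw [← inv_eq_of_mul_eq_one_right e, inv_eq_of_mul_eq_one_right hx2])
      have hV : Nat.card V = 4 := by
        show Nat.card ↑({1, x, y, x * y} : Set G) = 4
        rw [Nat.card_coe_set_eq, Set.ncard_insert_of_notMem, Set.ncard_insert_of_notMem, Set.ncard_pair]
        · exact fun e => hx1 (mul_eq_right.mp e.symm)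
        · simp only [Set.mem_insert_iff, Set.mem_singleton_iff, not_or]
          exact ⟨hyx.symm, fun e => hy0 (mul_eq_left.mp e.symm)⟩
        · simp only [Set.mem_insert_iff, Set.mem_singleton_iff, not_or]
          exact ⟨hx1.symm, hy0.symm, hxy0.symm⟩
      have := card_dvd_of_le hVH
      rw [hV, hcardH] at this
      norm_num at this
  right
  -- the chain
  have hm1 := hcard 1 (by omega)
  rw [show n - 1 = m by omega, pow_one] at hm1
  obtain ⟨x0, hx0, hx01⟩ : ∃ x ∈ lay g H m, x ≠ 1 := by
    obtain ⟨⟨a, ha⟩, hab⟩ := (haveI : Nontrivial ↥(lay g H m) := Finite.one_lt_card_iff_nontrivial.mp (by omega); exists_ne (1 : ↥(lay g H m)))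
    exact ⟨a, ha, fun e => hab (Subtype.ext e)⟩
  let x : ℕ → G := fun j => g⁻¹ ^ j * x0 * (g⁻¹ ^ j)⁻¹
  have hxs : ∀ j, x (j + 1) = g⁻¹ * x j * g⁻¹⁻¹ := fun j => by
    simp only [x, pow_succ']; group
  have hsq0 : x0 * x0 = 1 := by
    have := pow_card_eq_one' (x := (⟨x0, hx0⟩ : ↥(lay g H m)))
    rw [hm1] at this
    simpa [pow_two] using congrArg Subtype.val this
  have hcjseg : ∀ i k, cj g⁻¹ (seg x i k) = seg x (i + 1) k := by
    intro i k
    rw [cj, seg, MonoidHom.map_closure, seg, ← Set.image_comp]
    congr 1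
    ext y
    constructor
    · rintro ⟨a, ⟨h1, h2⟩, rfl⟩
      exact ⟨a + 1, ⟨by omega, by omega⟩, (hxs a).trans rfl⟩
    · rintro ⟨a, ⟨h1, h2⟩, rfl⟩
      refine ⟨a - 1, ⟨by omega, by omega⟩, ?_⟩
      conv_rhs => rw [show a = a - 1 + 1 by omega, hxs]
      rfl
  have hseg : ∀ k, k ≤ m → seg x 0 (k + 1) = lay g H (m - k) := by
    intro k
    induction k with
    | zero =>
      intro _
      have hle : seg x 0 1 ≤ lay g H m := seg_le fun j _ b => by
        rw [show j = 0 by omega]; simpa [x] using hx0
      rw [Nat.sub_zero, zero_add]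
      refine eq_of_le_of_card_ge hle ?_
      rw [hm1]
      have : Nontrivial (seg x 0 1) :=
        ⟨⟨⟨x 0, x_mem x le_rfl (by omega)⟩, 1, fun e => hx01 (by simpa [x] using congrArg Subtype.val e)⟩⟩
      exact Finite.one_lt_card
    | succ k ih =>
      intro hk
      have h1 := hgen (m - (k + 1)) (by omega)
      rw [show m - (k + 1) + 1 = m - k by omega, ← ih (by omega), hcjseg, zero_add] at h1
      rw [← h1]
      refine le_antisymm (seg_le fun j _ b => ?_)
        (sup_le (seg_mono x le_rfl (by omega)) (seg_mono x (Nat.zero_le _) (by omega)))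
      rcases Nat.eq_zero_or_pos j with rfl | hj
      · exact mem_sup_left (x_mem x le_rfl (by omega))
      · exact mem_sup_right (x_mem x hj (by omega))
  have htop : seg x 0 (m + 1) = H := by rw [hseg m le_rfl, Nat.sub_self]; rfl
  refine ⟨{
    g := g⁻¹
    x := x
    m := m
    two_le := hm2
    sq := fun i => by
      show g⁻¹ ^ i * x0 * (g⁻¹ ^ i)⁻¹ * (g⁻¹ ^ i * x0 * (g⁻¹ ^ i)⁻¹) = 1
      rw [show g⁻¹ ^ i * x0 * (g⁻¹ ^ i)⁻¹ * (g⁻¹ ^ i * x0 * (g⁻¹ ^ i)⁻¹) =
        g⁻¹ ^ i * (x0 * x0) * (g⁻¹ ^ i)⁻¹ by group, hsq0, mul_one, mul_inv_cancel]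
    shift := hxs
    card_seg := fun k hk => by
      rcases Nat.eq_zero_or_pos k with rfl | hk0
      · rw [seg_zero, card_bot, pow_zero]
      · obtain ⟨j, rfl⟩ : ∃ j, k = j + 1 := ⟨k - 1, by omega⟩
        rw [hseg j (by omega)]
        have := hcard (j + 1) (by omega)
        rwa [show n - (j + 1) = m - j by omega] at this
    q := 3
    odd_q := by decide
    card_top := by rw [htop]; exact hcardH
    core := fun N hN0 hx' => ?_ }, rfl, htop⟩
  have hN : N ≤ H := htop ▸ hN0.trans (seg_mono x le_rfl (by omega))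
  have hst : ∀ i, i ≤ m + 1 → x i ∈ stab N := fun i hi => by
    have h2 : x i * x i = 1 := by
      show g⁻¹ ^ i * x0 * (g⁻¹ ^ i)⁻¹ * (g⁻¹ ^ i * x0 * (g⁻¹ ^ i)⁻¹) = 1
      rw [show g⁻¹ ^ i * x0 * (g⁻¹ ^ i)⁻¹ * (g⁻¹ ^ i * x0 * (g⁻¹ ^ i)⁻¹) =
        g⁻¹ ^ i * (x0 * x0) * (g⁻¹ ^ i)⁻¹ by group, hsq0, mul_one, mul_inv_cancel]
    refine eq_of_le_of_card_ge (fun y hy => ?_) (by rw [card_cj])
    rw [mem_cj] at hy
    have := hx' i hi _ hy
    rwa [inv_eq_of_mul_eq_one_right h2, show x i * (x i * y * x i) * x i =
      (x i * x i) * y * (x i * x i) by group, h2, one_mul, mul_one] at this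
  have hHs : H ≤ stab N := htop ▸ seg_le fun j _ b => hst j (by omega)
  by_contra hNb
  have htopN : stab N = ⊤ := by
    refine hmax.2 _ (lt_of_le_not_ge hHs fun hle => ?_)
    have h1 : cj g⁻¹ H ≤ H := by
      refine le_trans ?_ hle
      rw [← htop, hcjseg]
      exact seg_le fun j _ b => hst j (by omega)
    have h2 : cj g⁻¹ H = H := eq_of_le_of_card_ge h1 (by rw [card_cj])
    have hgS : g ∈ stab H := by
      have : g⁻¹ ∈ stab H := h2
      simpa using inv_mem this
    have := eq_bot_of_stab hmax hcore le_rfl (fun y hy => cj_self_of_mem hy) hg hgS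
    rw [this, card_bot] at hcardH
    have := Nat.one_le_two_pow (n := m)
    omega
  exact hNb (hcore N ⟨fun a ha y => by
    have : cj y N = N := by rw [← mem_stab, htopN]; exact mem_top y
    rw [← this, mem_cj]
    simpa [mul_assoc] using ha⟩ hN)

/-- The three possibilities for a point stabiliser with a suborbit of length three. -/
theorem stabilizer_cases [Finite G] {Ω : Type*} [MulAction G Ω] [FaithfulSMul G Ω]
    (hprim : MulAction.IsPreprimitive G Ω) (a b : Ω)
    (h3 : Nat.card (MulAction.orbit (MulAction.stabilizer G a) b) = 3) :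
    Nat.card (MulAction.stabilizer G a) = 3 ∨
      (∃ L : Subgroup (MulAction.stabilizer G a), L.index = 3 ∧ Nat.card L = 2 ∧ ¬ L.Normal) ∨
        ∃ C : Chain G, C.q = 3 ∧ seg C.x 0 (C.m + 1) = MulAction.stabilizer G a := by
  set H := MulAction.stabilizer G a with hH
  have hab : a ≠ b := by
    rintro rfl
    have : MulAction.orbit H a = {a} := by
      ext c
      constructor
      · rintro ⟨⟨h, hh⟩, rfl⟩; exact hh
      · rintro rfl; exact MulAction.mem_orbit_self _
    rw [this] at h3
    simp at h3
  haveI : Nontrivial Ω := ⟨⟨a, b, hab⟩⟩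
  have hmax : IsCoatom H := MulAction.IsPreprimitive.isCoatom_stabilizer_of_isPreprimitive (G := G) a
  have hcore : ∀ N : Subgroup G, N.Normal → N ≤ H → N = ⊥ := by
    intro N hN hle
    refine eq_bot_iff.mpr fun x hx => mem_bot.mpr ?_
    refine eq_of_smul_eq_smul (α := Ω) fun c => ?_
    obtain ⟨k, rfl⟩ := MulAction.exists_smul_eq G a c
    have : k⁻¹ * x * k⁻¹⁻¹ ∈ H := hle (hN.conj_mem x hx k⁻¹)
    rw [inv_inv, hH, MulAction.mem_stabilizer_iff, mul_smul, mul_smul, inv_smul_eq_iff] at this
    rw [this, one_smul]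
  obtain ⟨g0, hg0⟩ := MulAction.exists_smul_eq G a b
  have hK : cj g0 H = MulAction.stabilizer G b := by
    rw [← hg0, MulAction.stabilizer_smul_eq_stabilizer_map_conj]; rfl
  set L := H ⊓ cj g0 H with hL
  have hLH : L.relIndex H = 3 := by
    rw [hL, inf_comm, inf_relIndex_right, hK]
    show ((MulAction.stabilizer G b).subgroupOf H).index = 3
    have e : (MulAction.stabilizer G b).subgroupOf H = MulAction.stabilizer H b := by
      ext x; simp [mem_subgroupOf, MulAction.mem_stabilizer_iff, Subgroup.smul_def]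
    rw [e, MulAction.index_stabilizer, ← Nat.card_coe_set_eq]
    exact h3
  have hLK : L.relIndex (cj g0 H) = 3 := by
    have h1 := relIndex_mul_relIndex ⊥ L H bot_le inf_le_left
    have h2 := relIndex_mul_relIndex ⊥ L (cj g0 H) bot_le inf_le_right
    rw [relIndex_bot_left, relIndex_bot_left, hLH] at h1
    rw [relIndex_bot_left, relIndex_bot_left, card_cj, ← h1] at h2
    exact Nat.eq_of_mul_eq_mul_left Nat.card_pos h2
  -- odd order elements of `L` generate a normal subgroup
  have hSbot : ∀ x ∈ L, Odd (orderOf x) → x = 1 := by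
    set S := closure {x : G | x ∈ L ∧ Odd (orderOf x)} with hS
    have hstab : ∀ T : Subgroup G, L ≤ T → L.relIndex T = 3 → T ≤ stab S := by
      intro T hLT hidx t ht
      refine eq_of_le_of_card_ge ?_ (by rw [card_cj])
      rw [cj, hS, map_le_iff_le_comap, closure_le]
      rintro y ⟨hy, hodd⟩
      refine subset_closure ⟨?_, by rwa [MulEquiv.coe_toMonoidHom, MulEquiv.orderOf_eq]⟩
      have := conj_mem_of_odd (L := L.subgroupOf T) hidx (x := ⟨y, hLT hy⟩) (mem_subgroupOf.mpr hy)
        (by rwa [orderOf_mk]) ⟨t, ht⟩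
      exact mem_subgroupOf.mp this
    have hSL : S ≤ L := (closure_le L).mpr fun x hx => hx.1
    have h1 := hstab H inf_le_left hLH
    have h2 := hstab (cj g0 H) inf_le_right hLK
    have hne : ¬ stab S ≤ H := fun hle => by
      have h4 : cj g0 H = H := eq_of_le_of_card_ge (h2.trans hle) (by rw [card_cj])
      have h5 : L = H := by rw [hL, h4, inf_idem]
      rw [h5, relIndex_self] at hLH
      omega
    have htop := hmax.2 _ (lt_of_le_not_ge h1 hne)
    have hbot : S = ⊥ := hcore S ⟨fun n hn x => by
      have : cj x S = S := by rw [← mem_stab, htop]; exact mem_top x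
      rw [← this, mem_cj]
      simpa [mul_assoc] using hn⟩ (hSL.trans inf_le_left)
    intro x hx hodd
    have : x ∈ S := subset_closure ⟨hx, hodd⟩
    rwa [hbot, mem_bot] at this
  obtain ⟨e, he⟩ : ∃ e, Nat.card L = 2 ^ e := by
    refine ⟨_, Nat.eq_prime_pow_of_unique_prime_dvd (p := 2) Nat.card_pos.ne' fun {q} hq hdvd => ?_⟩
    by_contra hq2
    haveI := Fact.mk hq
    obtain ⟨x, hx⟩ := exists_prime_orderOf_dvd_card' q hdvd
    have hodd : Odd (orderOf (x : G)) := by
      rw [orderOf_coe, hx]; exact hq.odd_of_ne_two hq2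
    have := hSbot x x.2 hodd
    rw [← orderOf_coe, this, orderOf_one] at hx
    exact hq.ne_one hx.symm
  by_cases hL1 : L = ⊥
  · left
    rw [hL1, relIndex_bot_left] at hLH
    exact hLH
  right
  have hg0H : g0 ∉ H := fun h => hab (by rw [← hg0]; exact h.symm)
  obtain ⟨h, hh, hne⟩ : ∃ h ∈ H, cj (g0 * h) L ≠ L := by
    by_contra hcon
    simp only [not_exists, not_and, not_not] at hcon
    have h1 : g0 ∈ stab L := by simpa [mem_stab] using hcon 1 (one_mem H)
    have h2 : H ≤ stab L := fun y hy => by
      have h' : g0 * y ∈ stab L := hcon y hy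
      simpa using mul_mem (inv_mem h1) h'
    exact hL1 (eq_bot_of_stab hmax hcore inf_le_left h2 hg0H h1)
  have hgH : g0 * h ∉ H := fun h' => hg0H (by simpa using mul_mem h' (inv_mem hh))
  have hcjH : cj (g0 * h) H = cj g0 H := by rw [cj_mul, cj_self_of_mem hh]
  refine chain_of_pair hmax hcore hgH ?_ (e := e) ?_ ?_
  · rw [hcjH]; exact hLH
  · rw [hcjH]; exact he
  · rw [hcjH]; exact hne

end CfsgLib.Perm.SubdegreeThree
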