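import Cfsg.Agent.Lib.Perm.SubdegreeThree.Structure
import Cfsg.Agent.Lib.PGroup.ShiftChain
import Cfsg.Agent.Lib.Solvable.Cores
import Mathlib.GroupTheory.SpecificGroups.Dihedral

/-!
A group `H` with dihedral quotient by its 2-core, and an element normalising a Sylow 2-subgroup of `H`
but no nontrivial normal subgroup of `H` inside it, give a cubic chain.
-/

set_option autoImplicit false

namespace CfsgLib.Perm.SubdegreeThree

open Subgroup

/-- The quotient by the 2-core has trivial centre when it is dihedral, so of twice odd order. -/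
theorem odd_of_quot_pCore {A : Type*} [Group A] [Finite A] {n : ℕ} (hn : 2 ≤ n)
    [(Cfsg.pCore 2 A).Normal] (e : A ⧸ Cfsg.pCore 2 A ≃* DihedralGroup n) : Odd n := by
  by_contra hodd
  rw [Nat.not_odd_iff_even] at hodd
  obtain ⟨k, rfl⟩ := hodd
  haveI : NeZero (k + k) := ⟨by omega⟩
  haveI : Fact (Nat.Prime 2) := ⟨Nat.prime_two⟩
  set f : A →* DihedralGroup (k + k) := e.toMonoidHom.comp (QuotientGroup.mk' _) with hf
  have hk2 : ((k : ZMod (k + k)) + k) = 0 := by rw [← Nat.cast_add, ZMod.natCast_self]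
  have hk0 : (k : ZMod (k + k)) ≠ 0 := by
    intro h
    rw [ZMod.natCast_eq_zero_iff] at h
    have := Nat.le_of_dvd (by omega) h
    omega
  set t : DihedralGroup (k + k) := DihedralGroup.r (k : ZMod (k + k)) with ht
  have ht2 : t * t = 1 := by rw [ht, DihedralGroup.r_mul_r, hk2]; rfl
  have hneg : -(k : ZMod (k + k)) = k := neg_eq_of_add_eq_zero_right hk2
  have htc : ∀ d, d * t * d⁻¹ = t := by
    rintro (j | j)
    · rw [ht, DihedralGroup.inv_r, DihedralGroup.r_mul_r, DihedralGroup.r_mul_r]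
      congr 1; ring
    · rw [ht, DihedralGroup.inv_sr, DihedralGroup.sr_mul_r, DihedralGroup.sr_mul_sr]
      rw [show j - (j + (k : ZMod (k + k))) = -k by ring, hneg]
  haveI : (zpowers t).Normal := ⟨fun w hw d => by
    obtain ⟨z, rfl⟩ := mem_zpowers_iff.mp hw
    rw [← conj_zpow, htc]; exact zpow_mem (mem_zpowers _) z⟩
  have hker : f.ker = Cfsg.pCore 2 A := by
    ext a; simp [hf, QuotientGroup.eq_one_iff]
  have hp : IsPGroup 2 ((zpowers t).comap f) := by
    refine IsPGroup.comap_of_ker_isPGroup ?_ f (hker.symm ▸ CfsgLib.Solvable.Cores.isPGroup_pCore 2)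
    refine fun ⟨w, hw⟩ => ⟨1, ?_⟩
    obtain ⟨z, rfl⟩ := mem_zpowers_iff.mp hw
    apply Subtype.ext
    show (t ^ z) ^ (2 ^ 1) = 1
    rw [pow_one, pow_two, ← (Commute.refl t).mul_zpow, ht2, one_zpow]
  have hle : (zpowers t).comap f ≤ Cfsg.pCore 2 A := CfsgLib.Solvable.Cores.le_pCore hp
  obtain ⟨a, ha⟩ : ∃ a, f a = t := by
    obtain ⟨a, ha⟩ := QuotientGroup.mk'_surjective _ (e.symm t)
    exact ⟨a, by show e (QuotientGroup.mk' _ a) = t; rw [ha, MulEquiv.apply_symm_apply]⟩
  have h1 : f a = 1 := by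
    rw [← MonoidHom.mem_ker, hker]; exact hle (by rw [mem_comap, ha]; exact mem_zpowers t)
  rw [ha, ht, DihedralGroup.one_def] at h1
  exact hk0 (DihedralGroup.r.inj h1)

/-- Inside `H`: the Sylow subgroup and a conjugate of it generate, and meet in the 2-core. -/
theorem exists_rotation {A : Type*} [Group A] [Finite A] {n : ℕ} (hn : 2 ≤ n)
    [(Cfsg.pCore 2 A).Normal] (e : A ⧸ Cfsg.pCore 2 A ≃* DihedralGroup n) (P : Subgroup A)
    (hP : IsPGroup 2 P) (hPi : ¬ 2 ∣ P.index) :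
    Odd n ∧ Cfsg.pCore 2 A ≤ P ∧ (Cfsg.pCore 2 A).relIndex P = 2 ∧ Nat.card A = n * Nat.card P ∧
      ∃ c : A, P ⊔ cj c P = ⊤ ∧ P ⊓ cj c P = Cfsg.pCore 2 A := by
  haveI : Fact (Nat.Prime 2) := ⟨Nat.prime_two⟩
  have hodd := odd_of_quot_pCore hn e
  set O := Cfsg.pCore 2 A with hO
  have hOP : O ≤ P := CfsgLib.Solvable.Cores.pCore_le_sylow (hP.toSylow hPi)
  have hOidx : O.index = 2 * n := by
    rw [index_eq_card, Nat.card_congr e.toEquiv, DihedralGroup.nat_card]
  have hr : O.relIndex P = 2 := by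
    have h1 := relIndex_mul_index hOP
    rw [hOidx] at h1
    obtain ⟨b, hb⟩ := hP.exists_card_eq
    obtain ⟨j, -, hj⟩ := (Nat.dvd_prime_pow Nat.prime_two).mp (hb ▸ relIndex_dvd_card (H := O) (K := P))
    rw [hj] at h1 ⊢
    rcases j with _ | _ | j
    · exfalso; exact hPi ⟨n, by simpa using h1⟩
    · rfl
    · exfalso
      obtain ⟨i, hi⟩ := hodd
      rw [pow_succ, pow_succ, show 2 ^ j * 2 * 2 * P.index = 4 * (2 ^ j * P.index) by ring] at h1
      omega
  have hcardA : Nat.card A = n * Nat.card P := by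
    have h1 := relIndex_mul_index hOP
    rw [hr, hOidx] at h1
    rw [← P.card_mul_index, Nat.eq_of_mul_eq_mul_left (by norm_num) h1, Nat.mul_comm]
  refine ⟨hodd, hOP, hr, hcardA, ?_⟩
  set f : A →* DihedralGroup n := e.toMonoidHom.comp (QuotientGroup.mk' O) with hf
  have hker : f.ker = O := by ext a; simp [hf, QuotientGroup.eq_one_iff]
  have hsurj : Function.Surjective f := e.surjective.comp (QuotientGroup.mk'_surjective O)
  have h2ne : (2 : ZMod n) ≠ 0 := by
    intro h
    have : n ∣ 2 := (ZMod.natCast_eq_zero_iff 2 n).mp (by exact_mod_cast h)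
    obtain ⟨i, hi⟩ := hodd
    have := Nat.le_of_dvd (by norm_num) this
    omega
  -- the nontrivial image of `P` is a reflection
  obtain ⟨p0, hp0, hp0'⟩ : ∃ p0 ∈ P, p0 ∉ O := by
    by_contra hcon
    simp only [not_exists, not_and, not_not] at hcon
    rw [relIndex_eq_one.mpr hcon] at hr
    norm_num at hr
  have hmulO : ∀ s ∈ P, s ∉ O → s * p0 ∈ O := fun s hs hs' =>
    mem_subgroupOf.mp ((mul_mem_iff_of_index_two (H := O.subgroupOf P) hr (a := ⟨s, hs⟩) (b := ⟨p0, hp0⟩)).mpr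
      ⟨fun h => absurd (mem_subgroupOf.mp h) hs', fun h => absurd (mem_subgroupOf.mp h) hp0'⟩)
  have hsq : f p0 * f p0 = 1 := by
    rw [← map_mul, ← MonoidHom.mem_ker, hker]; exact hmulO p0 hp0 hp0'
  have hne : f p0 ≠ 1 := fun h => hp0' (hker ▸ MonoidHom.mem_ker.mpr h)
  obtain ⟨i, hi⟩ : ∃ i, f p0 = DihedralGroup.sr i := by
    rcases h : f p0 with j | j
    · exfalso
      rw [h, DihedralGroup.r_mul_r, DihedralGroup.one_def] at hsq
      have hjj := DihedralGroup.r.inj hsq
      obtain ⟨u, hu⟩ := hodd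
      apply hne
      rw [h, DihedralGroup.one_def]
      congr 1
      have e2 : (((2 * u + 1 : ℕ)) : ZMod n) = 0 := (ZMod.natCast_eq_zero_iff _ _).mpr (dvd_of_eq hu)
      push_cast at e2
      calc j = (2 * (u : ZMod n) + 1) * j - (u : ZMod n) * (j + j) := by ring
        _ = 0 := by rw [e2, hjj, zero_mul, mul_zero, sub_zero]
    · exact ⟨j, rfl⟩
  obtain ⟨c, hc⟩ := hsurj (DihedralGroup.r 1)
  have himg : f (c * p0 * c⁻¹) = DihedralGroup.sr (i - 2) := by
    rw [map_mul, map_mul, map_inv, hc, hi, DihedralGroup.inv_r, DihedralGroup.r_mul_sr, DihedralGroup.sr_mul_r]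
    congr 1; ring
  have hcp : c * p0 * c⁻¹ ∈ cj c P := ⟨p0, hp0, rfl⟩
  refine ⟨c, ?_, ?_⟩
  · refine top_le_iff.mp fun a _ => ?_
    set D := P ⊔ cj c P
    have hker' : f.ker ≤ D := hker ▸ hOP.trans le_sup_left
    suffices h : ∀ d, d ∈ D.map f by
      obtain ⟨b, hb, hba⟩ := h (f a)
      have hba' : b⁻¹ * a ∈ f.ker := by rw [MonoidHom.mem_ker, map_mul, map_inv, hba, inv_mul_cancel]
      simpa using mul_mem hb (hker' hba')
    have hs : DihedralGroup.sr i ∈ D.map f := hi ▸ mem_map_of_mem f (mem_sup_left hp0)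
    have hs' : DihedralGroup.sr (i - 2) ∈ D.map f := himg ▸ mem_map_of_mem f (mem_sup_right hcp)
    have h2 : DihedralGroup.r (2 : ZMod n) ∈ D.map f := by
      have := mul_mem hs' hs
      rwa [DihedralGroup.sr_mul_sr, show i - (i - 2) = (2 : ZMod n) by ring] at this
    haveI : NeZero n := ⟨by omega⟩
    have hr1 : DihedralGroup.r (1 : ZMod n) ∈ D.map f := by
      obtain ⟨u, hu⟩ := hodd
      have := pow_mem h2 (u + 1)
      rw [DihedralGroup.r_pow] at this
      have e1 : (((2 * u + 1 : ℕ)) : ZMod n) = 0 := (ZMod.natCast_eq_zero_iff _ _).mpr (dvd_of_eq hu)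
      rwa [show (2 : ZMod n) * ((u + 1 : ℕ) : ZMod n) = ((2 * u + 1 : ℕ) : ZMod n) + 1 by push_cast; ring,
        e1, zero_add] at this
    have hrj : ∀ j : ZMod n, DihedralGroup.r j ∈ D.map f := fun j => by
      rw [← ZMod.natCast_zmod_val j, ← DihedralGroup.r_one_pow]; exact pow_mem hr1 _
    rintro (j | j)
    · exact hrj j
    · have := mul_mem hs (hrj (j - i))
      rwa [DihedralGroup.sr_mul_r, add_sub_cancel] at this
  · refine le_antisymm (fun s hs => ?_) (le_inf hOP fun s hs => ?_)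
    · by_contra hs'
      obtain ⟨b, hb, hbs⟩ := hs.2
      change c * b * c⁻¹ = s at hbs
      have hb' : b ∉ O := fun h => hs' (hbs ▸ Normal.conj_mem inferInstance b h c)
      have himage : ∀ x ∈ P, x ∉ O → f x = DihedralGroup.sr i := fun x hx hx' => by
        have h := hmulO x hx hx'
        rw [← hker, MonoidHom.mem_ker, map_mul, hi, mul_eq_one_iff_eq_inv, DihedralGroup.inv_sr] at h
        exact h
      have h1 := himage s hs.1 hs'
      rw [← hbs, map_mul, map_mul, map_inv, himage b hb hb', ← hi, ← map_inv, ← map_mul, ← map_mul, himg, hi] at h1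
      exact h2ne (sub_eq_self.mp (DihedralGroup.sr.inj h1))
    · rw [mem_cj]
      exact hOP (by simpa using Normal.conj_mem inferInstance s hs c⁻¹)

variable {G : Type*} [Group G]

theorem cj_inf (g : G) (A B : Subgroup G) : cj g (A ⊓ B) = cj g A ⊓ cj g B :=
  map_inf _ _ _ (MulAut.conj g).injective

/-- The chain. -/
theorem chain_of_dihedral [Finite G] (H : Subgroup G) (hO : Cfsg.pCore 2 H ≠ ⊥) {n : ℕ} (hn : 2 ≤ n)
    [(Cfsg.pCore 2 H).Normal] (e : H ⧸ Cfsg.pCore 2 H ≃* DihedralGroup n) (P : Subgroup G)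
    (hPH : P ≤ H) (hP : IsPGroup 2 P) (hPsyl : ¬ 2 ∣ P.relIndex H) (y : G) (hyN : cj y P = P)
    (hy2 : y ^ 2 ∈ P ⊔ centralizer (P : Set G))
    (hyQ : ∀ Q : Subgroup G, Q ≤ P → (Q.subgroupOf H).Normal → cj y Q = Q → Q = ⊥) :
    ∃ C : Chain G, C.q = n ∧ seg C.x 0 (C.m + 1) = H ∧ Nat.card P = 2 ^ C.m := by
  haveI : Fact (Nat.Prime 2) := ⟨Nat.prime_two⟩
  obtain ⟨hodd, hOP, hrel, hcardH, c, hgen, hinf⟩ := exists_rotation hn e (P.subgroupOf H)
    (hP.of_equiv (subgroupOfEquivOfLe hPH).symm) hPsyl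
  rw [Nat.card_congr (subgroupOfEquivOfLe hPH).toEquiv] at hcardH
  set Q0 := (Cfsg.pCore 2 H).map H.subtype with hQ0
  have hPmap : (P.subgroupOf H).map H.subtype = P := map_subgroupOf_eq_of_le hPH
  have hcjmap : ∀ (a : H) (S : Subgroup H), (cj a S).map H.subtype = cj (a : G) (S.map H.subtype) := fun a S => by
    rw [cj, cj, map_map, map_map]; rfl
  set c0 : G := (c : G) with hc0
  have hgen' : P ⊔ cj c0 P = H := by
    have := congrArg (Subgroup.map H.subtype) hgen
    rwa [Subgroup.map_sup, hcjmap, hPmap, ← MonoidHom.range_eq_map, range_subtype] at this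
  have hinf' : P ⊓ cj c0 P = Q0 := by
    have := congrArg (Subgroup.map H.subtype) hinf
    rwa [map_inf _ _ _ H.subtype_injective, hcjmap, hPmap] at this
  have hQ0P : Q0 ≤ P := hinf' ▸ inf_le_left
  have hQ0st : H ≤ stab Q0 := fun h hh => by
    show cj h Q0 = Q0
    refine eq_of_le_of_card_ge ?_ (by rw [card_cj])
    rintro _ ⟨_, ⟨s, hs, rfl⟩, rfl⟩
    exact ⟨⟨h, hh⟩ * s * ⟨h, hh⟩⁻¹, Normal.conj_mem inferInstance s hs _, rfl⟩
  have hcardQ0 : 2 * Nat.card Q0 = Nat.card P := by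
    have h := relIndex_mul_relIndex ⊥ (Cfsg.pCore 2 H) (P.subgroupOf H) bot_le hOP
    rw [relIndex_bot_left, relIndex_bot_left, hrel,
      Nat.card_congr (subgroupOfEquivOfLe hPH).toEquiv] at h
    rw [hQ0, Subgroup.card_map_of_injective H.subtype_injective]
    omega
  have hc0H : c0 ∈ H := c.2
  have hinf'' : P ⊓ cj c0⁻¹ P = Q0 := by
    have h1 : cj c0⁻¹ Q0 = Q0 := hQ0st (inv_mem hc0H)
    rw [← hinf', cj_inf, cj_inv_cj, inf_comm] at h1
    rw [h1, hinf']
  set g := c0 * y⁻¹ with hg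
  have hginv : g⁻¹ = y * c0⁻¹ := by rw [hg, mul_inv_rev, inv_inv]
  have hgP : cj g P = cj c0 P := by
    rw [hg, cj_mul]
    conv_lhs => rw [← hyN, cj_inv_cj]
  have hgiP : cj g⁻¹ P = cj y (cj c0⁻¹ P) := by rw [hginv, cj_mul]
  have hR : P ⊓ cj g⁻¹ P = cj y Q0 := by
    conv_lhs => rw [hgiP, ← hyN]
    rw [← cj_inf, hyN, hinf'']
  have hidx : (P ⊓ cj g⁻¹ P).relIndex (cj g⁻¹ P) = 2 := by
    have h1 := relIndex_mul_relIndex ⊥ (P ⊓ cj g⁻¹ P) (cj g⁻¹ P) bot_le inf_le_right
    rw [relIndex_bot_left, relIndex_bot_left, card_cj] at h1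
    rw [hR, card_cj] at h1
    rw [hR]
    exact Nat.eq_of_mul_eq_mul_left Nat.card_pos (h1.trans (by rw [← hcardQ0, Nat.mul_comm]))
  have hinvP : ∀ S : Subgroup G, S ≤ P → (S.subgroupOf P).Normal → cj g S = S → S = ⊥ := by
    intro S hS hn' hgS
    have hPst : P ≤ stab S := fun p hp => by
      show cj p S = S
      refine eq_of_le_of_card_ge ?_ (by rw [card_cj])
      rintro _ ⟨s, hs, rfl⟩
      exact mem_subgroupOf.mp (hn'.conj_mem ⟨s, hS hs⟩ (mem_subgroupOf.mpr hs) ⟨p, hp⟩)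
    have hgst : g ∈ stab S := hgS
    have hgPst : cj g P ≤ stab S := by
      rintro _ ⟨p, hp, rfl⟩
      exact mul_mem (mul_mem hgst (hPst hp)) (inv_mem hgst)
    have hHst : H ≤ stab S := hgen' ▸ sup_le hPst (hgP ▸ hgPst)
    have hyst : y ∈ stab S := by
      have := mul_mem (inv_mem hgst) (hHst hc0H)
      rwa [hginv, inv_mul_cancel_right] at this
    refine hyQ S hS ⟨fun s hs h => ?_⟩ hyst
    rw [mem_subgroupOf] at hs ⊢
    have : cj (h : G) S = S := hHst h.2
    rw [← this]; exact ⟨s, hs, rfl⟩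
  obtain ⟨D, hDg, hDp, hDP⟩ := CfsgLib.PGroup.ShiftChain.exists_shift P g 2 Nat.prime_two
    (Subgroup.normal_of_index_eq_two hidx) hidx hinvP
  set m := D.m with hm
  have hcardP : Nat.card P = 2 ^ m := by rw [← hDP, D.card_X 0 m le_rfl, hDp]
  have hm2 : 2 ≤ m := by
    by_contra hlt
    have hm1 : m = 1 := by have := D.one_le; omega
    rw [hm1, pow_one, ← hcardQ0] at hcardP
    apply hO
    have : Nat.card (Cfsg.pCore 2 H) = 1 := by
      rw [← Subgroup.card_map_of_injective (f := H.subtype) H.subtype_injective, ← hQ0]; omega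
    exact card_eq_one.mp this
  have htop : seg D.x 0 (m + 1) = H := by
    have h1 : seg D.x 1 m = cj c0 P := by
      rw [← hgP, ← hDP, ← hDg]
      have := D.map_conj_seg 0 m 1
      rw [zero_add, pow_one] at this
      exact this.symm
    refine le_antisymm (seg_le fun j _ hj => ?_) ?_
    · rw [← hgen']
      rcases (show j < m ∨ j = m by omega) with h | rfl
      · refine mem_sup_left ?_
        rw [← hDP]; exact x_mem _ (Nat.zero_le _) (by omega)
      · refine mem_sup_right ?_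
        rw [← h1]; exact x_mem _ (by omega) (by omega)
    · rw [← hgen', ← h1, ← hDP]
      exact sup_le (seg_mono _ le_rfl (by omega)) (seg_mono _ (Nat.zero_le _) (by omega))
  have hsq : ∀ i, D.x i * D.x i = 1 := fun i => by
    have h1 := pow_card_eq_one' (x := (⟨D.x i, x_mem D.x le_rfl (by omega)⟩ : D.X i 1))
    rw [D.card_X i 1 D.one_le, hDp, pow_one] at h1
    simpa [pow_two] using congrArg Subtype.val h1
  refine ⟨{
    g := D.g
    x := D.x
    m := m
    two_le := hm2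
    sq := hsq
    shift := D.shift
    card_seg := fun k hk => by rw [D.card_seg k hk, hDp]
    q := n
    odd_q := hodd
    card_top := by rw [htop, hcardH, hcardP]
    core := fun N hN hx => ?_ }, rfl, htop, hcardP⟩
  have hNP : N ≤ P := hDP ▸ hN
  have hxst : ∀ i, i ≤ m + 1 → D.x i ∈ stab N := fun i hi => by
    refine eq_of_le_of_card_ge ?_ (by rw [card_cj])
    rintro _ ⟨s, hs, rfl⟩
    have := hx i hi s hs
    show D.x i * s * (D.x i)⁻¹ ∈ N
    rwa [inv_eq_of_mul_eq_one_right (hsq i)]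
  have hHst : H ≤ stab N := htop ▸ seg_le fun j _ hj => hxst j (by omega)
  have hgHst : cj g H ≤ stab N := by
    rw [← htop, ← hDg]
    have := D.map_conj_seg 0 (m + 1) 1
    rw [zero_add, pow_one] at this
    show (D.X 0 (m + 1)).map (MulAut.conj D.g).toMonoidHom ≤ stab N
    rw [this]
    exact seg_le fun j _ hj => hxst j (by omega)
  have hPst : P ≤ stab N := hPH.trans hHst
  have hyHst : ∀ h ∈ H, y⁻¹ * h * y ∈ stab N := fun h hh => by
    have h1 : g * h * g⁻¹ ∈ stab N := hgHst ⟨h, hh, rfl⟩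
    have := mul_mem (mul_mem (inv_mem (hHst hc0H)) h1) (hHst hc0H)
    rwa [hginv, hg, show c0⁻¹ * (c0 * y⁻¹ * h * (y * c0⁻¹)) * c0 = y⁻¹ * h * y by group] at this
  have hy2st : y ^ 2 ∈ stab N := by
    refine (sup_le hPst (fun z hz => ?_) : P ⊔ centralizer (P : Set G) ≤ stab N) hy2
    show cj z N = N
    ext s
    rw [mem_cj]
    constructor
    · intro hs
      have h := hz _ (hNP hs)
      have e : s = z⁻¹ * s * z := by
        calc s = z * (z⁻¹ * s * z) * z⁻¹ := by group
          _ = z⁻¹ * s * z := by rw [← h, mul_inv_cancel_right]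
      rwa [e]
    · intro hs
      rwa [mul_assoc, (show s * z = z * s from hz s (hNP hs)), inv_mul_cancel_left]
  set M := N ⊔ cj y N with hM
  have hMP : M ≤ P := sup_le hNP (hyN ▸ cj_mono y hNP)
  have hMn : (M.subgroupOf H).Normal := ⟨fun s hs h => by
    rw [mem_subgroupOf] at hs ⊢
    have e : cj (h : G) M = M := by
      rw [hM, cj, Subgroup.map_sup]
      show cj (h : G) N ⊔ cj (h : G) (cj y N) = _
      rw [show cj (h : G) N = N from hHst h.2, ← cj_mul,
        show (h : G) * y = y * (y⁻¹ * h * y) by group, cj_mul, show cj (y⁻¹ * h * y) N = N from hyHst h h.2]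
    rw [← e]; exact ⟨s, hs, rfl⟩⟩
  have hyM : cj y M = M := by
    rw [hM, cj, Subgroup.map_sup]
    show cj y N ⊔ cj y (cj y N) = _
    rw [← cj_mul, ← pow_two, show cj (y ^ 2) N = N from hy2st, sup_comm]
  exact le_bot_iff.mp (le_sup_left.trans (hyQ M hMP hMn hyM).le)

end CfsgLib.Perm.SubdegreeThree
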