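import Cfsg.Agent.Lib.LocalEven.AmalgamS4.Recognition
import Cfsg.Agent.Lib.Involution.ZStar.Basic
import Cfsg.Agent.S0206
import Mathlib.GroupTheory.SchurZassenhaus
import Mathlib.GroupTheory.IndexNormal
import Mathlib.GroupTheory.SpecificGroups.KleinFour

/-!
Groups with a normal 2-subgroup `Q` on which two involutions induce `S₃` and whose quotient by `Q` is
dihedral of twice odd order: the structure of the quotient by the odd core.
-/

set_option autoImplicit false

namespace CfsgLib.Perm.SubdegreeThree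

open Subgroup

variable {A : Type*} [Group A]

/-- A self-centralising normal subgroup of index six. -/
theorem centralizer_le_of_index_six [Finite A] (Q : Subgroup A) [Q.Normal]
    (hab : ∀ a ∈ Q, ∀ b ∈ Q, a * b = b * a) (h6 : Q.index = 6) {u y : A} (hu : u * u = 1)
    (hu' : u ∉ centralizer (Q : Set A)) (hy' : y ∉ centralizer (Q : Set A))
    (hy : y ^ 3 ∈ centralizer (Q : Set A)) : centralizer (Q : Set A) ≤ Q := by
  set C := centralizer (Q : Set A) with hC
  have hQC : Q ≤ C := fun a ha b hb => hab b hb a ha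
  have hn : C.Normal := ⟨fun c hc a b hb => by
    have h1 : a⁻¹ * b * a⁻¹⁻¹ ∈ Q := Normal.conj_mem inferInstance b hb a⁻¹
    have h2 := hc _ h1
    calc b * (a * c * a⁻¹) = a * ((a⁻¹ * b * a⁻¹⁻¹) * c) * a⁻¹ := by group
      _ = a * (c * (a⁻¹ * b * a⁻¹⁻¹)) * a⁻¹ := by rw [h2]
      _ = a * c * a⁻¹ * b := by group⟩
  have h1 := relIndex_mul_index hQC
  rw [h6] at h1
  have d2 : 2 ∣ C.index := by
    by_contra h
    obtain ⟨k, hk⟩ : Odd C.index := Nat.odd_iff.mpr (by omega)
    have := C.pow_index_mem u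
    rw [hk, pow_succ, pow_mul, pow_two, hu, one_pow, one_mul] at this
    exact hu' this
  have d3 : 3 ∣ C.index := by
    by_contra h
    have hm := C.pow_index_mem y
    obtain ⟨k, hk⟩ : ∃ k, C.index = 3 * k + 1 ∨ C.index = 3 * k + 2 := ⟨C.index / 3, by omega⟩
    apply hy'
    rcases hk with hk | hk <;> rw [hk, pow_add, pow_mul, mul_mem_cancel_left (pow_mem hy k)] at hm
    · simpa using hm
    · have := mul_mem (inv_mem hm) hy
      rwa [pow_succ y 2, inv_mul_cancel_left] at this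
  have d6 : 6 ∣ C.index := Nat.Coprime.mul_dvd_of_dvd_of_dvd (by norm_num : Nat.Coprime 2 3) d2 d3
  have h0 : C.index ≠ 0 := index_ne_zero_of_finite
  refine relIndex_eq_one.mp ?_
  obtain ⟨k, hk⟩ := d6
  rw [hk] at h1
  rcases k with _ | k
  · omega
  · have h2 : Q.relIndex C * (k + 1) = 1 := by
      rw [show Q.relIndex C * (6 * (k + 1)) = 6 * (Q.relIndex C * (k + 1)) by ring] at h1
      omega
    exact (mul_eq_one.mp h2).1

/-- A central 2-subgroup of odd index in a normal subgroup splits off the odd core. -/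
theorem oddCore_index [Finite A] (Q C : Subgroup A) [Q.Normal] [C.Normal] {a : ℕ}
    (hQ : Nat.card Q = 2 ^ a) (hQC : Q ≤ C) (hc : C ≤ centralizer (Q : Set A))
    (hodd : Odd (Q.relIndex C)) (hO : Cfsg.oddCore A ≤ C) :
    (Cfsg.oddCore A).index = C.index * Nat.card Q := by
  set k := Q.relIndex C with hk
  set Q' := Q.subgroupOf C with hQ'
  have hQ'card : Nat.card Q' = 2 ^ a := by
    rw [hQ', Nat.card_congr (subgroupOfEquivOfLe hQC).toEquiv, hQ]
  have hcop : Nat.Coprime (2 ^ a) k := Nat.Coprime.pow_left a (Nat.coprime_two_left.mpr hodd)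
  have hQ'index : Q'.index = k := rfl
  obtain ⟨K', hK'⟩ := exists_left_complement'_of_coprime (N := Q') (by rw [hQ'card, hQ'index]; exact hcop)
  have hK'card : Nat.card K' = k := by rw [← hK'.index_eq_card, hQ'index]
  -- the complement consists of the elements killed by `k`
  have hchar : ∀ x : C, x ∈ K' ↔ x ^ k = 1 := fun x => by
    constructor
    · intro hx
      have := pow_card_eq_one' (x := (⟨x, hx⟩ : K'))
      rw [hK'card] at this
      exact congrArg Subtype.val this
    · intro hx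
      obtain ⟨⟨⟨b, hb⟩, ⟨c, hc'⟩⟩, rfl⟩ := hK'.2 x
      have hcomm : Commute b c :=
        Subtype.ext ((hc b.2 (c : A) (mem_subgroupOf.mp hc')).symm)
      have hb1 : b ^ k = 1 := by
        have := pow_card_eq_one' (x := (⟨b, hb⟩ : K'))
        rw [hK'card] at this
        exact congrArg Subtype.val this
      change (b * c) ^ k = 1 at hx
      rw [hcomm.mul_pow, hb1, one_mul] at hx
      have hdvd : orderOf c ∣ 2 ^ a := by
        rw [← hQ'card]; exact Subgroup.orderOf_dvd_natCard Q' hc'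
      have : orderOf c ∣ 1 := by
        have := Nat.dvd_gcd hdvd (orderOf_dvd_of_pow_eq_one hx)
        rwa [hcop] at this
      have hc1 : c = 1 := orderOf_eq_one_iff.mp (Nat.dvd_one.mp this)
      show b * c ∈ K'
      rw [hc1, mul_one]; exact hb
  set K := K'.map C.subtype with hK
  have hKn : K.Normal := ⟨by
    rintro _ ⟨x, hx, rfl⟩ g
    refine ⟨⟨g * (x : A) * g⁻¹, Normal.conj_mem inferInstance _ x.2 g⟩, ?_, rfl⟩
    refine (hchar _).mpr (Subtype.ext ?_)
    show (g * (x : A) * g⁻¹) ^ k = 1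
    rw [conj_pow, show (x : A) ^ k = 1 from congrArg Subtype.val ((hchar x).mp hx), mul_one, mul_inv_cancel]⟩
  have hKcard : Nat.card K = k := by
    rw [hK, Subgroup.card_map_of_injective C.subtype_injective, hK'card]
  have hKO : K ≤ Cfsg.oddCore A := CfsgLib.Involution.ZStar.le_oddCore hKn (hKcard ▸ hodd)
  have hCcard : Nat.card C = 2 ^ a * k := by rw [← Q'.card_mul_index, hQ'card, hQ'index]
  have hOk : Nat.card (Cfsg.oddCore A) = k := by
    have h1 : Nat.card (Cfsg.oddCore A) ∣ 2 ^ a * k := hCcard ▸ card_dvd_of_le hO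
    have h2 : Nat.card (Cfsg.oddCore A) ∣ k :=
      Nat.Coprime.dvd_of_dvd_mul_left
        (Nat.Coprime.pow_right a (Nat.coprime_two_right.mpr CfsgLib.Involution.ZStar.odd_card_oddCore)) h1
    exact Nat.dvd_antisymm h2 (hKcard ▸ card_dvd_of_le hKO)
  apply Nat.eq_of_mul_eq_mul_left (show 0 < k from hodd.pos)
  rw [← hOk, (Cfsg.oddCore A).card_mul_index, ← C.card_mul_index, hCcard, hOk, hQ]
  ring

/-- Two involutions inducing `S₃` on `Q`. -/
structure Frame (A : Type*) [Group A] (q : ℕ) where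
  /-- the normal 2-subgroup -/
  Q : Subgroup A
  normal : Q.Normal
  comm : ∀ a ∈ Q, ∀ b ∈ Q, a * b = b * a
  index : Q.index = 2 * q
  /-- the first involution -/
  u : A
  /-- the second involution -/
  v : A
  hu : u * u = 1
  hv : v * v = 1
  gen : Q ⊔ closure ({u, v} : Set A) = ⊤
  hu' : u ∉ centralizer (Q : Set A)
  hy' : u * v ∉ centralizer (Q : Set A)
  hy3 : (u * v) ^ 3 ∈ centralizer (Q : Set A)

namespace Frame

variable {q : ℕ}

theorem centralizer_index [Finite A] (F : Frame A q) : (centralizer (F.Q : Set A)).index = 6 := by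
  haveI := F.normal
  set C := centralizer (F.Q : Set A)
  have hn : C.Normal := Subgroup.normal_centralizer
  let π := QuotientGroup.mk' C
  have hne : ∀ w, w ∉ C → π w ≠ 1 := fun w hw h => hw ((QuotientGroup.eq_one_iff w).mp h)
  have hy : orderOf (π F.u * π F.v) = 3 := by
    haveI := Fact.mk Nat.prime_three
    rw [← map_mul]
    refine orderOf_eq_prime ?_ (hne _ F.hy')
    rw [← map_pow]
    exact (QuotientGroup.eq_one_iff _).mpr F.hy3
  have hu : orderOf (π F.u) = 2 :=
    orderOf_eq_prime (by rw [pow_two, ← map_mul, F.hu, map_one]) (hne _ F.hu')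
  have hv : orderOf (π F.v) = 2 := by
    refine orderOf_eq_prime (by rw [pow_two, ← map_mul, F.hv, map_one]) fun h => ?_
    rw [h, mul_one, hu] at hy
    norm_num at hy
  have huv : π F.u ≠ π F.v := fun h => by
    rw [← h, ← pow_two, ← hu, pow_orderOf_eq_one, orderOf_one] at hy
    norm_num at hy
  obtain ⟨e⟩ := Cfsg.Agent.S0206.result _ _ hu hv huv
  have htop : closure ({π F.u, π F.v} : Set (A ⧸ C)) = ⊤ := by
    refine top_le_iff.mp fun w _ => ?_
    obtain ⟨w, rfl⟩ := QuotientGroup.mk'_surjective C w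
    have : w ∈ (closure ({π F.u, π F.v} : Set (A ⧸ C))).comap π := by
      refine (sup_le (fun s hs => ?_) ?_ : F.Q ⊔ closure ({F.u, F.v} : Set A) ≤ _) (F.gen ▸ mem_top w)
      · have : π s = 1 := (QuotientGroup.eq_one_iff s).mpr (fun b hb => F.comm b hb s hs)
        rw [mem_comap, this]; exact one_mem _
      · rw [closure_le]
        rintro _ (rfl | rfl)
        exacts [subset_closure (Or.inl rfl), subset_closure (Or.inr rfl)]
    exact this
  rw [index_eq_card, ← Subgroup.card_top, ← htop, Nat.card_congr e.toEquiv, DihedralGroup.nat_card, hy]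

theorem quot_card [Finite A] (F : Frame A q) (hq : Odd q) {a : ℕ} (hQ : Nat.card F.Q = 2 ^ a) :
    (Cfsg.oddCore A).index = 6 * 2 ^ a := by
  haveI := F.normal
  have hn : (centralizer (F.Q : Set A)).Normal := Subgroup.normal_centralizer
  have hQC : F.Q ≤ centralizer (F.Q : Set A) := fun s hs b hb => F.comm b hb s hs
  have h1 := relIndex_mul_index hQC
  rw [F.centralizer_index, F.index] at h1
  have hodd : Odd (F.Q.relIndex (centralizer (F.Q : Set A))) := by
    obtain ⟨i, hi⟩ := hq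
    exact Nat.odd_iff.mpr (by omega)
  rw [oddCore_index F.Q _ hQ hQC le_rfl hodd ?_, F.centralizer_index, hQ]
  intro x hx b hb
  refine (Subgroup.commute_of_normal_of_disjoint _ _ inferInstance
    CfsgLib.Involution.ZStar.oddCore_normal ?_ b x hb hx).eq
  refine disjoint_iff.mpr (card_eq_one.mp ?_)
  refine Nat.eq_one_of_dvd_coprimes (Nat.Coprime.pow_left a
    (Nat.coprime_two_left.mpr CfsgLib.Involution.ZStar.odd_card_oddCore))
    (hQ ▸ card_dvd_of_le inf_le_left) (card_dvd_of_le inf_le_right)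

theorem eq_one_of_mem [Finite A] (F : Frame A q) {a : ℕ} (hQ : Nat.card F.Q = 2 ^ a) {s : A}
    (hs : s ∈ F.Q) (hO : s ∈ Cfsg.oddCore A) : s = 1 := by
  have h1 : orderOf s ∣ 2 ^ a := hQ ▸ Subgroup.orderOf_dvd_natCard _ hs
  have h2 := Subgroup.orderOf_dvd_natCard _ hO
  exact orderOf_eq_one_iff.mp (Nat.eq_one_of_dvd_coprimes (Nat.Coprime.pow_left a
    (Nat.coprime_two_left.mpr CfsgLib.Involution.ZStar.odd_card_oddCore)) h1 h2)

theorem commute_of_map [Finite A] (F : Frame A q) {a : ℕ} (hQ : Nat.card F.Q = 2 ^ a)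
    [hn : (Cfsg.oddCore A).Normal] {w s : A} (hs : s ∈ F.Q)
    (h : QuotientGroup.mk' (Cfsg.oddCore A) s * QuotientGroup.mk' (Cfsg.oddCore A) w =
      QuotientGroup.mk' (Cfsg.oddCore A) w * QuotientGroup.mk' (Cfsg.oddCore A) s) : s * w = w * s := by
  haveI := F.normal
  have hmem : w * s * w⁻¹ * s⁻¹ ∈ Cfsg.oddCore A := (QuotientGroup.eq_one_iff _).mp (by
    show QuotientGroup.mk' (Cfsg.oddCore A) (w * s * w⁻¹ * s⁻¹) = 1
    rw [map_mul, map_mul, map_mul, map_inv, map_inv, ← h, mul_inv_cancel_right, mul_inv_cancel])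
  have hmem' : w * s * w⁻¹ * s⁻¹ ∈ F.Q := mul_mem (F.normal.conj_mem s hs w) (inv_mem hs)
  have := F.eq_one_of_mem hQ hmem' hmem
  rw [mul_inv_eq_one, mul_inv_eq_iff_eq_mul] at this
  exact this.symm

theorem quot [Finite A] (F : Frame A q) (hq : Odd q) {a : ℕ} (hQ : Nat.card F.Q = 2 ^ a)
    [hn : (Cfsg.oddCore A).Normal] :
    Nat.card (A ⧸ Cfsg.oddCore A) = 6 * 2 ^ a ∧
      Nat.card (F.Q.map (QuotientGroup.mk' (Cfsg.oddCore A))) = 2 ^ a ∧
      centralizer (F.Q.map (QuotientGroup.mk' (Cfsg.oddCore A)) : Set (A ⧸ Cfsg.oddCore A)) ≤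
        F.Q.map (QuotientGroup.mk' (Cfsg.oddCore A)) := by
  haveI := F.normal
  set π := QuotientGroup.mk' (Cfsg.oddCore A)
  have hcard : Nat.card (A ⧸ Cfsg.oddCore A) = 6 * 2 ^ a := by rw [← index_eq_card, F.quot_card hq hQ]
  have hQb : Nat.card (F.Q.map π) = 2 ^ a := by
    have hinj : Function.Injective (π.comp F.Q.subtype) := by
      rw [injective_iff_map_eq_one]
      intro s hs
      exact Subtype.ext (F.eq_one_of_mem hQ s.2 ((QuotientGroup.eq_one_iff _).mp hs))
    rw [← hQ, show F.Q.map π = (π.comp F.Q.subtype).range by rw [MonoidHom.range_comp, range_subtype]]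
    exact Nat.card_congr (MonoidHom.ofInjective hinj).toEquiv.symm
  refine ⟨hcard, hQb, ?_⟩
  haveI hnb : (F.Q.map π).Normal := Normal.map inferInstance π (QuotientGroup.mk'_surjective _)
  have h6 : (F.Q.map π).index = 6 := by
    have h1 := (F.Q.map π).card_mul_index
    rw [hQb, hcard, Nat.mul_comm 6] at h1
    exact Nat.eq_of_mul_eq_mul_left (by positivity) h1
  have hnot : ∀ w, w ∉ centralizer (F.Q : Set A) → π w ∉ centralizer (F.Q.map π : Set (A ⧸ Cfsg.oddCore A)) :=
    fun w hw h => hw fun s hs => F.commute_of_map hQ hs (h _ ⟨s, hs, rfl⟩)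
  refine centralizer_le_of_index_six (F.Q.map π) ?_ h6 (u := π F.u) (y := π (F.u * F.v))
    (by rw [← map_mul, F.hu, map_one]) (hnot _ F.hu') (hnot _ F.hy') ?_
  · rintro _ ⟨s, hs, rfl⟩ _ ⟨t, ht, rfl⟩
    rw [← map_mul, ← map_mul, F.comm s hs t ht]
  · rintro _ ⟨s, hs, rfl⟩
    rw [← map_pow, ← map_mul, ← map_mul, F.hy3 s hs]

theorem quot_four [Finite A] (F : Frame A q) (hq : Odd q) (hQ : Nat.card F.Q = 4)
    [hn : (Cfsg.oddCore A).Normal]
    (hZ : ∀ x ∈ F.Q, F.u * x = x * F.u → F.v * x = x * F.v → x = 1) :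
    Nonempty ((A ⧸ Cfsg.oddCore A) ≃* Equiv.Perm (Fin 4)) := by
  haveI := F.normal
  obtain ⟨h1, h2, h3⟩ := F.quot hq (a := 2) hQ
  haveI : (F.Q.map (QuotientGroup.mk' (Cfsg.oddCore A))).Normal :=
    Normal.map inferInstance _ (QuotientGroup.mk'_surjective _)
  refine LocalEven.AmalgamS4.Recognition.mulEquiv_perm_four h1 _ h2 h3 ?_
  rintro _ ⟨s, hs, rfl⟩ hc
  rw [hZ s hs (F.commute_of_map (a := 2) hQ hs (hc _).symm).symm
    (F.commute_of_map (a := 2) hQ hs (hc _).symm).symm, map_one]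

theorem quot_prod [Finite A] (F : Frame A q) (hq : Odd q) (hQ : Nat.card F.Q = 8)
    [hn : (Cfsg.oddCore A).Normal] {k : A} (hkQ : k ∈ F.Q) (hk2 : k * k = 1) (hkc : ∀ g, g * k = k * g)
    (hZ : ∀ x ∈ F.Q, F.u * x = x * F.u → F.v * x = x * F.v → x = 1 ∨ x = k)
    (ψ : A →* Multiplicative (ZMod 2)) (hψ : ψ k ≠ 1) :
    Nonempty ((A ⧸ Cfsg.oddCore A) ≃* Equiv.Perm (Fin 4) × Multiplicative (ZMod 2)) := by
  haveI := F.normal
  obtain ⟨h1, h2, h3⟩ := F.quot hq (a := 3) hQ
  haveI : (F.Q.map (QuotientGroup.mk' (Cfsg.oddCore A))).Normal :=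
    Normal.map inferInstance _ (QuotientGroup.mk'_surjective _)
  have hker : Cfsg.oddCore A ≤ ψ.ker := fun x hx => by
    have h4 : orderOf (ψ x) ∣ Nat.card (Cfsg.oddCore A) :=
      (orderOf_map_dvd ψ x).trans (Subgroup.orderOf_dvd_natCard _ hx)
    have h5 : orderOf (ψ x) ∣ 2 := by
      rw [orderOf_dvd_iff_pow_eq_one]
      rcases LocalEven.AmalgamS4.Recognition.zmod2_cases (ψ x) with h | h <;> rw [h] <;> rfl
    exact orderOf_eq_one_iff.mp (Nat.eq_one_of_dvd_coprimes
      (Nat.coprime_two_left.mpr CfsgLib.Involution.ZStar.odd_card_oddCore) h5 h4)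
  obtain ⟨e⟩ := LocalEven.AmalgamS4.Recognition.mulEquiv_prod h1 _ h2 h3
    (k := QuotientGroup.mk' (Cfsg.oddCore A) k) ⟨k, hkQ, rfl⟩ (by rw [← map_mul, hk2, map_one])
    (fun g => by
      obtain ⟨g, rfl⟩ := QuotientGroup.mk'_surjective _ g
      rw [← map_mul, ← map_mul, hkc])
    (by
      rintro _ ⟨s, hs, rfl⟩ hc
      rcases hZ s hs (F.commute_of_map (a := 3) hQ hs (hc _).symm).symm
        (F.commute_of_map (a := 3) hQ hs (hc _).symm).symm with h | h
      · exact Or.inl (by rw [h, map_one])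
      · exact Or.inr (by rw [h]))
    (QuotientGroup.lift (Cfsg.oddCore A) ψ hker) hψ
  exact ⟨e.trans MulEquiv.prodComm⟩

end Frame

end CfsgLib.Perm.SubdegreeThree
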