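import Cfsg.Agent.Lib.Perm.SubdegreeThree.Construct
import Cfsg.Agent.Lib.LocalEven.AmalgamS4.Recognition
import Cfsg.Agent.S0206
import Cfsg.Agent.Lib.Perm.SubdegreeThree.Frames

/-!
The structure of the group of a cubic chain.
-/

set_option autoImplicit false

namespace CfsgLib.Perm.SubdegreeThree

open Subgroup

variable {G : Type*} [Group G]

theorem commute_of_gens {A : Type*} [Group A] {s : Set G} (f : closure s →* A)
    (hc : ∀ a, ∀ ha : a ∈ s, ∀ b, ∀ hb : b ∈ s,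
      Commute (f ⟨a, subset_closure ha⟩) (f ⟨b, subset_closure hb⟩)) (y z : closure s) :
    Commute (f y) (f z) := by
  have step : ∀ (z : closure s) (c : A),
      (∀ a, ∀ ha : a ∈ s, Commute c (f ⟨a, subset_closure ha⟩)) → Commute c (f z) := by
    rintro ⟨z, hz⟩ c hcs
    induction hz using closure_induction with
    | mem a ha => exact hcs a ha
    | one => exact (map_one f).symm ▸ Commute.one_right c
    | mul a b ha hb iha ihb =>
      rw [show (⟨a * b, _⟩ : closure s) = ⟨a, ha⟩ * ⟨b, hb⟩ from rfl, map_mul]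
      exact iha.mul_right ihb
    | inv a ha iha =>
      rw [show (⟨a⁻¹, _⟩ : closure s) = ⟨a, ha⟩⁻¹ from rfl, map_inv]
      exact iha.inv_right
  exact step z (f y) fun a ha => (step y _ fun b hb => hc a ha b hb).symm

theorem sq_of_gens {A : Type*} [Group A] {s : Set G} (f : closure s →* A)
    (h2 : ∀ a, ∀ ha : a ∈ s, f ⟨a, subset_closure ha⟩ * f ⟨a, subset_closure ha⟩ = 1)
    (hc : ∀ a, ∀ ha : a ∈ s, ∀ b, ∀ hb : b ∈ s,
      Commute (f ⟨a, subset_closure ha⟩) (f ⟨b, subset_closure hb⟩)) (z : closure s) :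
    f z * f z = 1 := by
  obtain ⟨z, hz⟩ := z
  induction hz using closure_induction with
  | mem a ha => exact h2 a ha
  | one => rw [show (⟨1, _⟩ : closure s) = 1 from rfl, map_one, mul_one]
  | mul a b ha hb iha ihb =>
    rw [show (⟨a * b, _⟩ : closure s) = ⟨a, ha⟩ * ⟨b, hb⟩ from rfl, map_mul,
      (commute_of_gens f hc _ _).mul_mul_mul_comm, iha, ihb, one_mul]
  | inv a ha iha =>
    rw [show (⟨a⁻¹, _⟩ : closure s) = ⟨a, ha⟩⁻¹ from rfl, map_inv, ← mul_inv_rev, iha, inv_one]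

theorem sq_eq_one_zmod_two : ∀ z : Multiplicative (ZMod 2), z ^ 2 = 1 := by decide

namespace Chain

variable (C : Chain G)

theorem mem_one {i : ℕ} {s : G} (hs : s ∈ C.X i 1) : s = 1 ∨ s = C.x i := by
  have hm := C.two_le
  rcases C.mem_or_left (k := 0) (by omega) hs with h | h <;> rw [X, seg_zero, mem_bot] at h
  · exact Or.inl h
  · exact Or.inr ((eq_inv_of_mul_eq_one_right h).trans (C.inv_x i))

theorem mem_two {i : ℕ} {s : G} (hs : s ∈ C.X i 2) :
    s = 1 ∨ s = C.x i ∨ s = C.x (i + 1) ∨ s = C.x i * C.x (i + 1) := by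
  rcases C.mem_or_left (k := 1) C.two_le hs with h | h <;> rcases C.mem_one h with h' | h'
  · exact Or.inl h'
  · exact Or.inr (Or.inr (Or.inl h'))
  · exact Or.inr (Or.inl ((eq_inv_of_mul_eq_one_right h').trans (C.inv_x i)))
  · exact Or.inr (Or.inr (Or.inr (by rw [← h', ← mul_assoc, C.sq, one_mul])))

theorem finite_top : Finite (seg C.x 0 (C.m + 1)) :=
  Nat.finite_of_card_ne_zero (by rw [C.card_top]; exact mul_ne_zero C.odd_q.pos.ne' (pow_ne_zero _ two_ne_zero))

theorem cm_inv (i j : ℕ) : (C.cm i j)⁻¹ = C.cm j i := by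
  simp only [cm, mul_inv_rev, C.inv_x, mul_assoc]

theorem conj_eq (i j : ℕ) : C.x i * C.x j * C.x i = C.cm i j * C.x j := by
  rw [cm]; simp only [mul_assoc, C.sq, mul_one]

theorem conj_of_commute {i j : ℕ} (h : Commute (C.x i) (C.x j)) : C.x i * C.x j * C.x i = C.x j := by
  rw [h.eq, mul_assoc, C.sq, mul_one]

theorem commute_X {l i k : ℕ} (h : C.Comm l) (hk : k ≤ l + 1) {a b : G} (ha : a ∈ C.X i k)
    (hb : b ∈ C.X i k) : Commute a b :=
  commute_seg (fun _ _ _ =>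
    (commute_seg (fun _ _ _ => C.comm_near h (by omega) (by omega)) ha).symm) hb

theorem X_le_top {i k : ℕ} (h : i + k ≤ C.m + 1) : C.X i k ≤ seg C.x 0 (C.m + 1) :=
  seg_mono C.x (Nat.zero_le _) (by omega)

theorem normal_X {i k : ℕ} (h : i + k ≤ C.m + 1)
    (hconj : ∀ a b, a ≤ C.m → i ≤ b → b < i + k → C.x a * C.x b * C.x a ∈ C.X i k) :
    ((C.X i k).subgroupOf (seg C.x 0 (C.m + 1))).Normal := by
  have := C.finite_top
  have hle := C.X_le_top h
  have hfin : Finite (C.X i k) := Finite.of_injective _ (inclusion_injective hle)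
  have hst : seg C.x 0 (C.m + 1) ≤ stab (C.X i k) := seg_le fun a _ ha => by
    refine eq_of_le_of_card_ge (fun y hy => ?_) (by rw [card_cj])
    rw [mem_cj, C.inv_x] at hy
    have := conj_seg_mem (C.sq a) (fun b h1 h2 => hconj a b (by omega) h1 h2) hy
    rwa [conj_mul_self (C.sq a)] at this
  refine ⟨fun n hn g => ?_⟩
  rw [mem_subgroupOf] at hn ⊢
  have e : cj (g : G) (C.X i k) = C.X i k := hst g.2
  rw [← e, mem_cj]
  simpa [mul_assoc] using hn

theorem card_X_subgroupOf {i k : ℕ} (h : i + k ≤ C.m + 1) (hk : k ≤ C.m) :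
    Nat.card ((C.X i k).subgroupOf (seg C.x 0 (C.m + 1))) = 2 ^ k := by
  rw [Nat.card_congr (subgroupOfEquivOfLe (C.X_le_top h)).toEquiv, C.card_X i k hk]

theorem index_X_subgroupOf {i k : ℕ} (h : i + k ≤ C.m + 1) (hk : k + 1 = C.m) :
    ((C.X i k).subgroupOf (seg C.x 0 (C.m + 1))).index = 2 * C.q := by
  have h1 := ((C.X i k).subgroupOf (seg C.x 0 (C.m + 1))).card_mul_index
  rw [C.card_X_subgroupOf h (by omega), C.card_top] at h1
  generalize ((C.X i k).subgroupOf (seg C.x 0 (C.m + 1))).index = K at h1 ⊢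
  rw [← hk, pow_succ] at h1
  apply Nat.eq_of_mul_eq_mul_left (show 0 < 2 ^ k by positivity)
  rw [h1]; ring

/-- The whole group is generated by a middle segment and the two end involutions. -/
theorem gen_top (hi : 1 + (C.m - 1) ≤ C.m + 1) :
    (C.X 1 (C.m - 1)).subgroupOf (seg C.x 0 (C.m + 1)) ⊔
      closure ({⟨C.x 0, x_mem _ le_rfl (by omega)⟩, ⟨C.x C.m, x_mem _ (by omega) (by omega)⟩} :
        Set (seg C.x 0 (C.m + 1))) = ⊤ := by
  set D := (C.X 1 (C.m - 1)).subgroupOf (seg C.x 0 (C.m + 1)) ⊔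
      closure ({⟨C.x 0, x_mem _ le_rfl (by omega)⟩, ⟨C.x C.m, x_mem _ (by omega) (by omega)⟩} :
        Set (seg C.x 0 (C.m + 1))) with hD
  have hle : seg C.x 0 (C.m + 1) ≤ D.map (seg C.x 0 (C.m + 1)).subtype := seg_le fun j _ hj => by
    refine ⟨⟨C.x j, x_mem _ (Nat.zero_le _) hj⟩, ?_, rfl⟩
    rcases (show j = 0 ∨ j = C.m ∨ (1 ≤ j ∧ j < 1 + (C.m - 1)) by omega) with rfl | rfl | ⟨a, b⟩
    · exact mem_sup_right (subset_closure (Or.inl rfl))
    · exact mem_sup_right (subset_closure (Or.inr rfl))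
    · exact mem_sup_left (mem_subgroupOf.mpr (x_mem _ a b))
  refine top_le_iff.mp fun z _ => ?_
  obtain ⟨w, hw, hwz⟩ := hle z.2
  rwa [← Subtype.ext (show (w : G) = z from hwz)]

theorem structure_two [Finite G] (hm : C.m = 2) (hq3 : C.q = 3) : Nonempty (seg C.x 0 (C.m + 1) ≃* DihedralGroup 6) := by
  have hc : C.Comm 1 := C.comm_one
  have hcard : Nat.card (seg C.x 0 (C.m + 1)) = 12 := by rw [C.card_top, hm, hq3]; rfl
  have h02 : C.x 0 ≠ C.x 2 := fun e => C.not_mem_left (i := 0) (k := 1) (by omega) (by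
    have hs : ∀ j, C.x 0 = C.x 2 → C.x (0 + j) = C.x (2 + j) := fun j e => by
      rw [C.shift_pow 0 j, C.shift_pow 2 j, e]
    -- `x 0 = x 2` puts the whole group inside `X 0 2`
    exfalso
    have hle : seg C.x 0 (C.m + 1) ≤ C.X 0 2 := seg_le fun j _ hj => by
      rcases (show j = 0 ∨ j = 1 ∨ j = 2 by omega) with rfl | rfl | rfl
      exacts [x_mem _ le_rfl (by omega), x_mem _ (by omega) (by omega),
        e ▸ x_mem _ le_rfl (by omega)]
    have := C.finite_X (i := 0) (show 2 ≤ C.m by omega)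
    have h := Subgroup.card_le_of_le hle
    rw [hcard, C.card_X 0 2 (by omega)] at h
    norm_num at h)
  have ho : ∀ i, orderOf (C.x i) = 2 := fun i =>
    orderOf_eq_prime (by rw [pow_two, C.sq]) (C.x_ne_one i)
  -- every generator is in the group
  have hmem : ∀ i, i ≤ 2 → C.x i ∈ seg C.x 0 (C.m + 1) := fun i hi =>
    x_mem _ (Nat.zero_le _) (by omega)
  have card_pair : ∀ a b : G, orderOf a = 2 → orderOf b = 2 → a ≠ b →
      Nat.card (closure ({a, b} : Set G)) = 2 * orderOf (a * b) := fun a b ha hb hab => by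
    obtain ⟨e⟩ := Cfsg.Agent.S0206.result a b ha hb hab
    rw [Nat.card_congr e.toEquiv, DihedralGroup.nat_card]
  have pair_le : ∀ a b : G, a ∈ seg C.x 0 (C.m + 1) → b ∈ seg C.x 0 (C.m + 1) →
      closure ({a, b} : Set G) ≤ seg C.x 0 (C.m + 1) := fun a b ha hb =>
    (closure_le _).mpr (by rintro _ (rfl | rfl) <;> assumption)
  set c := C.x 0 * C.x 2 with hcdef
  have hdvd := card_dvd_of_le (pair_le _ _ (hmem 0 (by omega)) (hmem 2 le_rfl))
  rw [hcard, card_pair _ _ (ho 0) (ho 2) h02, ← hcdef] at hdvd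
  have hn : orderOf c ∣ 6 := Nat.dvd_of_mul_dvd_mul_left (by norm_num : 0 < 2) (by simpa using hdvd)
  have hn2 : ¬ orderOf c ∣ 2 := fun h => by
    have hc2 : c * c = 1 := by rw [← pow_two]; exact orderOf_dvd_iff_pow_eq_one.mp h
    have h02c : Commute (C.x 0) (C.x 2) := by
      rw [← C.cm_eq_one_iff, cm, ← hcdef, mul_assoc c, ← hcdef]; exact hc2
    have hall : ∀ i j, i ≤ 2 → j ≤ 2 → Commute (C.x i) (C.x j) := fun i j hi hj => by
      rcases (show (j ≤ i + 1 ∧ i ≤ j + 1) ∨ (i = 0 ∧ j = 2) ∨ (i = 2 ∧ j = 0) by omega) with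
        ⟨h1, h2⟩ | ⟨rfl, rfl⟩ | ⟨rfl, rfl⟩
      exacts [C.comm_near hc h1 h2, h02c, h02c.symm]
    have hexp : ∀ z : seg C.x 0 (C.m + 1), (z : G) * z = 1 := fun z =>
      sq_of_gens (seg C.x 0 (C.m + 1)).subtype
        (by rintro _ ⟨i, -, rfl⟩; exact C.sq i)
        (by rintro _ ⟨i, ⟨-, hi⟩, rfl⟩ _ ⟨j, ⟨-, hj⟩, rfl⟩; exact hall i j (by omega) (by omega)) z
    haveI := Fact.mk Nat.prime_three
    obtain ⟨z, hz⟩ := exists_prime_orderOf_dvd_card' (G := seg C.x 0 (C.m + 1)) 3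
      (by rw [hcard]; norm_num)
    have : orderOf z ∣ 2 := orderOf_dvd_iff_pow_eq_one.mpr (by
      rw [pow_two]; exact Subtype.ext (hexp z))
    rw [hz] at this
    norm_num at this
  -- a second reflection with product of order six
  obtain ⟨b, hb, hb2, hbo⟩ : ∃ b, b ∈ seg C.x 0 (C.m + 1) ∧ b * b = 1 ∧ orderOf (C.x 0 * b) = 6 := by
    have hle : orderOf c ≤ 6 := Nat.le_of_dvd (by norm_num) hn
    have hpos : 0 < orderOf c := Nat.pos_of_ne_zero fun h => by rw [h] at hn; norm_num at hn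
    have h36 : orderOf c = 3 ∨ orderOf c = 6 := by
      generalize orderOf c = n at hn hn2 hle hpos
      interval_cases n <;> revert hn hn2 <;> decide
    rcases h36 with h | h
    · refine ⟨C.x 1 * C.x 2, mul_mem (hmem 1 (by omega)) (hmem 2 le_rfl), ?_, ?_⟩
      · rw [(C.comm_near hc (show 1 ≤ 2 + 1 by omega) (show 2 ≤ 1 + 1 by omega)).mul_mul_mul_comm,
          C.sq, C.sq, one_mul]
      · rw [← mul_assoc, (C.comm_near hc (show (1 : ℕ) ≤ 0 + 1 by omega) (by omega)).eq, mul_assoc,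
          ← hcdef]
        have hcx : Commute (C.x 1) c :=
          (C.comm_near hc (by omega) (by omega)).mul_right (C.comm_near hc (by omega) (by omega))
        rw [hcx.orderOf_mul_eq_mul_orderOf_of_coprime (by rw [ho, h]; norm_num), ho, h]
    · exact ⟨C.x 2, hmem 2 le_rfl, C.sq 2, h⟩
  have hb1 : b ≠ 1 := fun e => by rw [e, mul_one, ho] at hbo; norm_num at hbo
  have hb0 : C.x 0 ≠ b := fun e => by rw [← e, C.sq, orderOf_one] at hbo; norm_num at hbo
  have hbo2 : orderOf b = 2 := orderOf_eq_prime (by rw [pow_two, hb2]) hb1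
  have heq : closure ({C.x 0, b} : Set G) = seg C.x 0 (C.m + 1) := by
    refine eq_of_le_of_card_ge (pair_le _ _ (hmem 0 (by omega)) hb) ?_
    rw [hcard, card_pair _ _ (ho 0) hbo2 hb0, hbo]
  obtain ⟨e⟩ := Cfsg.Agent.S0206.result (C.x 0) b (ho 0) hbo2 hb0
  rw [hbo] at e
  exact ⟨(MulEquiv.subgroupCongr heq.symm).trans e⟩

theorem frame_three [Finite G] (hm : C.m = 3) :
    ∃ F : Frame (seg C.x 0 (C.m + 1)) C.q, Nat.card F.Q = 4 ∧
      ∀ x ∈ F.Q, F.u * x = x * F.u → F.v * x = x * F.v → x = 1 := by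
  obtain ⟨l, r, t, hc, hl1, hlm, hq, hr1, hrt, htl, hz, hup, hlo, hhi⟩ := C.exists_ends (by omega)
  obtain rfl : l = 1 := by omega
  obtain rfl : r = 1 := by omega
  obtain rfl : t = 1 := by omega
  have hq1 : C.cm 0 2 ≠ 1 := fun h => hq ((C.cm_eq_one_iff _ _).mp h)
  have e02 : C.cm 0 2 = C.x 1 := (C.mem_one hz).resolve_left hq1
  have e13 : C.cm 1 3 = C.x 2 := by
    rw [show C.cm 1 3 = C.cm (0 + 1) (2 + 1) from rfl, C.cm_shift 0 2 1, e02, ← C.shift_pow 1 1]
  have c01 : Commute (C.x 0) (C.x 1) := C.comm_near hc (by omega) (by omega)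
  have c12 : Commute (C.x 1) (C.x 2) := C.comm_near hc (by omega) (by omega)
  have c23 : Commute (C.x 2) (C.x 3) := C.comm_near hc (by omega) (by omega)
  have f01 := C.conj_of_commute c01
  have f02 : C.x 0 * C.x 2 * C.x 0 = C.x 1 * C.x 2 := by rw [C.conj_eq, e02]
  have f32 := C.conj_of_commute c23.symm
  have f31 : C.x 3 * C.x 1 * C.x 3 = C.x 1 * C.x 2 := by
    rw [C.conj_eq, ← C.cm_inv, e13, C.inv_x, c12.eq]
  set H := seg C.x 0 (C.m + 1) with hH
  set Q := (C.X 1 2).subgroupOf H with hQ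
  have h1 : C.x 1 ∈ C.X 1 2 := x_mem _ le_rfl (by omega)
  have h2 : C.x 2 ∈ C.X 1 2 := x_mem _ (by omega) (by omega)
  haveI hn : Q.Normal := C.normal_X (by omega) fun a b ha hb1 hb2 => by
    by_cases hab : a ≤ b + 1 ∧ b ≤ a + 1
    · rw [C.conj_of_commute (C.comm_near hc hab.2 hab.1)]; exact x_mem _ hb1 hb2
    rcases (show (a = 0 ∧ b = 2) ∨ (a = 3 ∧ b = 1) by omega) with ⟨rfl, rfl⟩ | ⟨rfl, rfl⟩
    · rw [f02]; exact mul_mem h1 h2
    · rw [f31]; exact mul_mem h1 h2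
  have hab : ∀ a ∈ Q, ∀ b ∈ Q, a * b = b * a := fun a ha b hb =>
    Subtype.ext (C.commute_X hc (by omega) (mem_subgroupOf.mp ha) (mem_subgroupOf.mp hb))
  let u : H := ⟨C.x 0, x_mem _ le_rfl (by omega)⟩
  let v : H := ⟨C.x 3, x_mem _ (by omega) (by omega)⟩
  let q1 : H := ⟨C.x 1, x_mem _ (by omega) (by omega)⟩
  let q2 : H := ⟨C.x 2, x_mem _ (by omega) (by omega)⟩
  have hq1Q : q1 ∈ Q := mem_subgroupOf.mpr h1
  have hq2Q : q2 ∈ Q := mem_subgroupOf.mpr h2
  have x2ne : C.x 1 * C.x 2 ≠ C.x 2 := fun e => C.x_ne_one 1 (mul_eq_right.mp e)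
  have x1ne : C.x 1 * C.x 2 ≠ C.x 1 := fun e => C.x_ne_one 2 (mul_eq_left.mp e)
  have hu' : u ∉ centralizer (Q : Set H) := fun h => by
    have := congrArg Subtype.val (h q2 hq2Q)
    change C.x 2 * C.x 0 = C.x 0 * C.x 2 at this
    apply x2ne
    rw [← f02, ← this, mul_assoc, C.sq, mul_one]
  set y := C.x 0 * C.x 3 with hy
  have yi : y⁻¹ = C.x 3 * C.x 0 := by rw [hy, mul_inv_rev, C.inv_x, C.inv_x]
  have y1 : y * C.x 1 * y⁻¹ = C.x 2 := by
    rw [yi, hy, show C.x 0 * C.x 3 * C.x 1 * (C.x 3 * C.x 0) =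
      C.x 0 * (C.x 3 * C.x 1 * C.x 3) * C.x 0 by group, f31,
      show C.x 0 * (C.x 1 * C.x 2) * C.x 0 = (C.x 0 * C.x 1) * (C.x 2 * C.x 0) by group, c01.eq,
      show C.x 1 * C.x 0 * (C.x 2 * C.x 0) = C.x 1 * (C.x 0 * C.x 2 * C.x 0) by group, f02,
      ← mul_assoc, C.sq, one_mul]
  have y2 : y * C.x 2 * y⁻¹ = C.x 1 * C.x 2 := by
    rw [yi, hy, show C.x 0 * C.x 3 * C.x 2 * (C.x 3 * C.x 0) =
      C.x 0 * (C.x 3 * C.x 2 * C.x 3) * C.x 0 by group, f32, f02]
  have hmul : ∀ a b : G, y * (a * b) * y⁻¹ = (y * a * y⁻¹) * (y * b * y⁻¹) := fun a b => by group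
  have hy' : u * v ∉ centralizer (Q : Set H) := fun h => by
    have := congrArg Subtype.val (h q2 hq2Q)
    change C.x 2 * y = y * C.x 2 at this
    apply x2ne
    rw [← y2, ← this, mul_inv_cancel_right]
  have hy3 : (u * v) ^ 3 ∈ centralizer (Q : Set H) := by
    have e : C.x 2 * (C.x 1 * C.x 2) = C.x 1 := by
      rw [c12.eq, ← mul_assoc, C.sq, one_mul]
    have key : ∀ s ∈ C.X 1 2, y * (y * (y * s * y⁻¹) * y⁻¹) * y⁻¹ = s := fun s hs => by
      rcases C.mem_two hs with rfl | rfl | rfl | rfl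
      · group
      · rw [y1, y2, hmul, y1, y2, c12.eq, ← mul_assoc, C.sq, one_mul]
      · rw [y2, hmul (C.x 1) (C.x 2), y1, y2, e, y1]
      · rw [hmul (C.x 1) (C.x (1 + 1)), y1, y2, e, y1, y2]
    intro q hq
    apply Subtype.ext
    show (q : G) * y ^ 3 = y ^ 3 * q
    calc (q : G) * y ^ 3 = y * (y * (y * q * y⁻¹) * y⁻¹) * y⁻¹ * y ^ 3 := by
          rw [key _ (mem_subgroupOf.mp hq)]
      _ = y ^ 3 * q := by simp only [pow_succ, pow_zero, one_mul]; group
  refine ⟨⟨Q, hn, hab, C.index_X_subgroupOf (by omega) (by omega), u, v, Subtype.ext (C.sq 0),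
    Subtype.ext (C.sq 3), ?_, hu', hy', hy3⟩, by rw [C.card_X_subgroupOf (by omega) (by omega)]; rfl,
    fun s hs hcu hcv => ?_⟩
  · have := C.gen_top (by omega)
    simp only [hm] at this
    exact this
  apply Subtype.ext
  show (s : G) = 1
  have hc0 := congrArg Subtype.val hcu
  have hc3 := congrArg Subtype.val hcv
  change C.x 0 * (s : G) = s * C.x 0 at hc0
  change C.x 3 * (s : G) = s * C.x 3 at hc3
  rcases C.mem_two (mem_subgroupOf.mp hs) with h | h | h | h
  · exact h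
  · rw [h] at hc3; exact absurd (by rw [← f31, hc3, mul_assoc, C.sq, mul_one]) x1ne
  · rw [h] at hc0; exact absurd (by rw [← f02, hc0, mul_assoc, C.sq, mul_one]) x2ne
  · exfalso
    rw [h] at hc0
    apply C.x_ne_one 1
    have e : C.x 0 * (C.x 1 * C.x 2) * C.x 0 = C.x 2 := by
      rw [show C.x 0 * (C.x 1 * C.x 2) * C.x 0 = (C.x 0 * C.x 1) * (C.x 2 * C.x 0) by group, c01.eq,
        show C.x 1 * C.x 0 * (C.x 2 * C.x 0) = C.x 1 * (C.x 0 * C.x 2 * C.x 0) by group, f02,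
        ← mul_assoc, C.sq, one_mul]
    rw [hc0, mul_assoc, C.sq, mul_one] at e
    exact mul_eq_right.mp e

theorem frame_four [Finite G] (hm : C.m = 4) :
    ∃ F : Frame (seg C.x 0 (C.m + 1)) C.q, ∃ k, k ∈ F.Q ∧ Nat.card F.Q = 8 ∧ k * k = 1 ∧
      (∀ g, g * k = k * g) ∧
      (∀ x ∈ F.Q, F.u * x = x * F.u → F.v * x = x * F.v → x = 1 ∨ x = k) ∧
      ∃ ψ : seg C.x 0 (C.m + 1) →* Multiplicative (ZMod 2), ψ k ≠ 1 := by
  obtain ⟨l, r, t, hc, hl1, hlm, hq, hr1, hrt, htl, hz, hup, hlo, hhi⟩ := C.exists_ends (by omega)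
  obtain rfl : l = 2 := by omega
  have hq1 : C.cm 0 3 ≠ 1 := fun h => hq ((C.cm_eq_one_iff _ _).mp h)
  have hz12 : C.cm 0 3 ∈ C.X 1 2 := seg_mono C.x hr1 (by omega) hz
  have sh : C.cm 1 4 = C.g ^ 1 * C.cm 0 3 * (C.g ^ 1)⁻¹ := C.cm_shift 0 3 1
  have c01 : Commute (C.x 0) (C.x 1) := C.comm_near hc (by omega) (by omega)
  have c02 : Commute (C.x 0) (C.x 2) := C.comm_near hc (by omega) (by omega)
  have c12 : Commute (C.x 1) (C.x 2) := C.comm_near hc (by omega) (by omega)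
  have c13 : Commute (C.x 1) (C.x 3) := C.comm_near hc (by omega) (by omega)
  have c23 : Commute (C.x 2) (C.x 3) := C.comm_near hc (by omega) (by omega)
  have c34 : Commute (C.x 3) (C.x 4) := C.comm_near hc (by omega) (by omega)
  have c24 : Commute (C.x 2) (C.x 4) := C.comm_near hc (by omega) (by omega)
  set H := seg C.x 0 (C.m + 1) with hH
  set Q := (C.X 1 3).subgroupOf H with hQ
  have h1 : C.x 1 ∈ C.X 1 3 := x_mem _ le_rfl (by omega)
  have h2 : C.x 2 ∈ C.X 1 3 := x_mem _ (by omega) (by omega)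
  have h3 : C.x 3 ∈ C.X 1 3 := x_mem _ (by omega) (by omega)
  have hX12 : C.X 1 2 ≤ C.X 1 3 := seg_mono _ le_rfl (by omega)
  have h14 : C.cm 1 4 ∈ C.X 1 3 := by
    refine seg_mono C.x (i := 2) (k := 2) (by omega) (by omega) ?_
    show C.cm 1 4 ∈ C.X 2 2
    rw [sh, ← C.map_conj_seg 1 2 1]
    exact ⟨_, hz12, rfl⟩
  haveI hn : Q.Normal := C.normal_X (by omega) fun a b ha hb1 hb2 => by
    by_cases hab : a ≤ b + 2 ∧ b ≤ a + 2
    · rw [C.conj_of_commute (C.comm_near hc hab.2 hab.1)]; exact x_mem _ hb1 hb2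
    rcases (show (a = 0 ∧ b = 3) ∨ (a = 4 ∧ b = 1) by omega) with ⟨rfl, rfl⟩ | ⟨rfl, rfl⟩
    · rw [C.conj_eq]; exact mul_mem (hX12 hz12) h3
    · rw [C.conj_eq, ← C.cm_inv]; exact mul_mem (inv_mem h14) h1
  have hab : ∀ a ∈ Q, ∀ b ∈ Q, a * b = b * a := fun a ha b hb =>
    Subtype.ext (C.commute_X hc (by omega) (mem_subgroupOf.mp ha) (mem_subgroupOf.mp hb))
  let u : H := ⟨C.x 0, x_mem _ le_rfl (by omega)⟩
  let v : H := ⟨C.x 4, x_mem _ (by omega) (by omega)⟩
  set y := C.x 0 * C.x 4 with hy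
  -- an element whose action on `Q` is killed by `4` is killed by `2`
  have hy2' : ∀ s ∈ C.X 1 3, y * (y * (y * (y * s * y⁻¹) * y⁻¹) * y⁻¹) * y⁻¹ = s →
      y * (y * s * y⁻¹) * y⁻¹ = s := by
    intro s hs h4
    have h6 := Q.pow_index_mem (u * v)
    rw [C.index_X_subgroupOf (by omega) (by omega), mem_subgroupOf] at h6
    change y ^ (2 * C.q) ∈ C.X 1 3 at h6
    have h7 : Commute (y ^ (2 * C.q)) s := C.commute_X hc (by omega) h6 hs
    have h8 : Commute (y ^ 4) s := by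
      rw [commute_iff_eq, ← mul_inv_eq_iff_eq_mul]
      conv_rhs => rw [← h4]
      simp only [pow_succ, pow_zero, one_mul]; group
    obtain ⟨i, hi⟩ := C.odd_q
    have h9 : Commute (y ^ 2) s := by
      have e : y ^ 2 = y ^ (2 * C.q) * ((y ^ 4) ^ i)⁻¹ := by
        rw [← pow_mul, eq_mul_inv_iff_mul_eq, ← pow_add]
        congr 1
        omega
      rw [e]
      exact h7.mul_left (h8.pow_left i).inv_left
    calc y * (y * s * y⁻¹) * y⁻¹ = y ^ 2 * s * (y ^ 2)⁻¹ := by
          simp only [pow_succ, pow_zero, one_mul]; group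
      _ = s := by rw [h9.eq, mul_inv_cancel_right]
  have hmul : ∀ a b : G, y * (a * b) * y⁻¹ = (y * a * y⁻¹) * (y * b * y⁻¹) := fun a b => by group
  have yexp : ∀ s, y * s * y⁻¹ = C.x 0 * (C.x 4 * s * C.x 4) * C.x 0 := fun s => by
    rw [hy, mul_inv_rev, C.inv_x, C.inv_x]; group
  have y2 : y * C.x 2 * y⁻¹ = C.x 2 := by
    rw [yexp, C.conj_of_commute c24.symm, C.conj_of_commute c02]
  have z3 : y * C.x 3 * y⁻¹ = C.cm 0 3 * C.x 3 := by
    rw [yexp, C.conj_of_commute c34.symm, C.conj_eq]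
  have z1 : y * C.x 1 * y⁻¹ = C.x 0 * ((C.cm 1 4)⁻¹ * C.x 1) * C.x 0 := by
    rw [yexp, C.conj_eq 4 1, C.cm_inv]
  have mul0 : ∀ a b : G, C.x 0 * (a * b) * C.x 0 = (C.x 0 * a * C.x 0) * (C.x 0 * b * C.x 0) :=
    fun a b => by simp only [mul_assoc]; rw [← mul_assoc (C.x 0) (C.x 0), C.sq, one_mul]
  -- the first commutator is `x 1 * x 2`
  have e03 : C.cm 0 3 = C.x 1 * C.x 2 := by
    rcases C.mem_two hz12 with h | h | h | h
    · exact absurd h hq1
    · exfalso
      have h' : C.cm 1 4 = C.x 2 := by rw [sh, h, ← C.shift_pow 1 1]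
      rw [h', C.inv_x, mul0, C.conj_of_commute c02, C.conj_of_commute c01, ← c12.eq] at z1
      rw [h] at z3
      have e1 : C.x 1 * C.x 2 * C.x 2 = C.x 1 := by rw [mul_assoc, C.sq, mul_one]
      have e2 : C.x 1 * C.x 2 * (C.x 1 * C.x 3) = C.x 2 * C.x 3 := by
        rw [c12.eq, mul_assoc, ← mul_assoc (C.x 1), C.sq, one_mul]
      have e23 : y * (C.x 2 * C.x 3) * y⁻¹ = C.x 2 * (C.x 1 * C.x 3) := by rw [hmul, y2, z3]
      have a2 : y * (y * C.x 3 * y⁻¹) * y⁻¹ = C.x 2 * C.x 3 := by rw [z3, hmul, z1, z3, e2]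
      have a4 : y * (y * (y * (y * C.x 3 * y⁻¹) * y⁻¹) * y⁻¹) * y⁻¹ = C.x 3 := by
        rw [a2, e23, hmul, hmul, y2, z1, z3, e2, ← mul_assoc, C.sq, one_mul]
      have := hy2' _ h3 a4
      rw [a2] at this
      exact C.x_ne_one 2 (mul_eq_right.mp this)
    · exfalso
      change C.cm 0 3 = C.x 2 at h
      have h' : C.cm 1 4 = C.x 3 := by rw [sh, h, ← C.shift_pow 2 1]
      rw [h] at z3
      rw [h', C.inv_x, mul0, C.conj_eq 0 3, h, C.conj_of_commute c01] at z1
      have e3 : ∀ w, C.x 3 * (C.x 2 * w) = C.x 2 * (C.x 3 * w) := fun w => by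
        rw [← mul_assoc, ← c23.eq, mul_assoc]
      have e4 : ∀ i w, C.x i * (C.x i * w) = w := fun i w => by rw [← mul_assoc, C.sq, one_mul]
      have a2 : y * (y * C.x 1 * y⁻¹) * y⁻¹ = C.x 2 * C.x 1 := by
        rw [z1, hmul, hmul, y2, z3, z1]
        simp only [mul_assoc, e3, e4]
      have a4 : y * (y * (y * (y * C.x 1 * y⁻¹) * y⁻¹) * y⁻¹) * y⁻¹ = C.x 1 := by
        rw [a2, hmul (C.x 2) (C.x 1), y2, hmul (C.x 2) (y * C.x 1 * y⁻¹), y2, a2, ← mul_assoc, C.sq, one_mul]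
      have := hy2' _ h1 a4
      rw [a2] at this
      exact C.x_ne_one 2 (mul_eq_right.mp this)
    · exact h
  have e14 : C.cm 1 4 = C.x 2 * C.x 3 := by
    rw [sh, e03, show C.g ^ 1 * (C.x 1 * C.x 2) * (C.g ^ 1)⁻¹ =
      (C.g ^ 1 * C.x 1 * (C.g ^ 1)⁻¹) * (C.g ^ 1 * C.x 2 * (C.g ^ 1)⁻¹) by group,
      ← C.shift_pow 1 1, ← C.shift_pow 2 1]
  have f03 : C.x 0 * C.x 3 * C.x 0 = C.x 1 * C.x 2 * C.x 3 := by rw [C.conj_eq, e03]
  have f41 : C.x 4 * C.x 1 * C.x 4 = C.x 1 * C.x 2 * C.x 3 := by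
    rw [C.conj_eq, ← C.cm_inv, e14, mul_inv_rev, C.inv_x, C.inv_x, ← c23.eq,
      ((c12.mul_right c13).symm).eq, mul_assoc]
  have y3 : y * C.x 3 * y⁻¹ = C.x 1 * C.x 2 * C.x 3 := by rw [z3, e03]
  have y1 : y * C.x 1 * y⁻¹ = C.x 3 := by
    rw [yexp, f41, mul0, mul0, C.conj_of_commute c01, C.conj_of_commute c02, f03]
    simp only [← mul_assoc]
    rw [c12.eq, mul_assoc (C.x 2), C.sq, mul_one, C.sq, one_mul]
  have y123 : y * (C.x 1 * C.x 2 * C.x 3) * y⁻¹ = C.x 1 := by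
    rw [hmul, hmul, y1, y2, y3, c12.eq, ← c23.eq]
    calc C.x 2 * C.x 3 * (C.x 2 * C.x 1 * C.x 3) = C.x 2 * (C.x 3 * C.x 2) * (C.x 1 * C.x 3) := by group
      _ = C.x 2 * (C.x 2 * C.x 3) * (C.x 3 * C.x 1) := by rw [c23.eq, c13.eq]
      _ = (C.x 2 * C.x 2) * (C.x 3 * C.x 3) * C.x 1 := by group
      _ = C.x 1 := by rw [C.sq, C.sq, one_mul, one_mul]
  have hx3' : C.x 1 * C.x 2 * C.x 3 ≠ C.x 3 := fun e => by
    apply C.not_mem_left (i := 1) (k := 1) (by omega)
    rw [mul_eq_right, mul_eq_one_iff_eq_inv, C.inv_x] at e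
    rw [e]; exact x_mem _ le_rfl (by omega)
  let q3 : H := ⟨C.x 3, x_mem _ (by omega) (by omega)⟩
  have hu' : u ∉ centralizer (Q : Set H) := fun h => by
    have := congrArg Subtype.val (h q3 (mem_subgroupOf.mpr h3))
    change C.x 3 * C.x 0 = C.x 0 * C.x 3 at this
    apply hx3'
    rw [← f03, ← this, mul_assoc, C.sq, mul_one]
  have hy' : u * v ∉ centralizer (Q : Set H) := fun h => by
    have := congrArg Subtype.val (h q3 (mem_subgroupOf.mpr h3))
    change C.x 3 * y = y * C.x 3 at this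
    apply hx3'
    rw [← y3, ← this, mul_inv_cancel_right]
  have hy3 : (u * v) ^ 3 ∈ centralizer (Q : Set H) := by
    have key : ∀ s, s ∈ C.X 1 3 → y * (y * (y * s * y⁻¹) * y⁻¹) * y⁻¹ = s := fun s hs => by
      let φ : G →* G := (MulAut.conj (y ^ 3)).toMonoidHom
      have hφ : ∀ s, φ s = y * (y * (y * s * y⁻¹) * y⁻¹) * y⁻¹ := fun s => by
        show y ^ 3 * s * (y ^ 3)⁻¹ = _; simp only [pow_succ, pow_zero, one_mul]; group
      rw [← hφ]
      have : Set.EqOn φ (MonoidHom.id G) (C.X 1 3) := MonoidHom.eqOn_closure (by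
        rintro _ ⟨j, ⟨hj1, hj2⟩, rfl⟩
        show φ (C.x j) = C.x j
        rw [hφ]
        rcases (show j = 1 ∨ j = 2 ∨ j = 3 by omega) with rfl | rfl | rfl
        · rw [y1, y3, y123]
        · rw [y2, y2, y2]
        · rw [y3, y123, y1])
      exact this hs
    intro q hq
    apply Subtype.ext
    show (q : G) * y ^ 3 = y ^ 3 * q
    calc (q : G) * y ^ 3 = y * (y * (y * q * y⁻¹) * y⁻¹) * y⁻¹ * y ^ 3 := by
          rw [key _ (mem_subgroupOf.mp hq)]
      _ = y ^ 3 * q := by simp only [pow_succ, pow_zero, one_mul]; group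
  -- the central involution
  let k : H := ⟨C.x 2, x_mem _ (by omega) (by omega)⟩
  have hkc : ∀ g : H, g * k = k * g := fun g =>
    Subtype.ext (commute_seg (fun j _ _ => C.comm_near hc (by omega) (by omega)) g.2).eq.symm
  have hZ : ∀ x ∈ Q, u * x = x * u → v * x = x * v → x = 1 ∨ x = k := by
    intro s hs hcu hcv
    have hc0 := congrArg Subtype.val hcu
    have hc4 := congrArg Subtype.val hcv
    change C.x 0 * (s : G) = s * C.x 0 at hc0
    change C.x 4 * (s : G) = s * C.x 4 at hc4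
    have hs12 : (s : G) ∈ C.X 1 2 := by
      rcases C.mem_or_right (i := 1) (k := 2) (by omega) (mem_subgroupOf.mp hs) with h | h
      · exact h
      · exfalso
        apply hq
        have hw : Commute (C.x 0) ((s : G) * C.x (1 + 2)) :=
          commute_seg (fun j _ _ => C.comm_near hc (by omega) (by omega)) h
        have := (show Commute (C.x 0) (s : G) from hc0).inv_right.mul_right hw
        rwa [inv_mul_cancel_left] at this
    have hs21 : (s : G) ∈ C.X 2 1 := by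
      rcases C.mem_or_left (i := 1) (k := 1) (by omega) hs12 with h | h
      · exact h
      · exfalso
        apply hq
        have hw : Commute (C.x 4) (C.x 1 * (s : G)) :=
          commute_seg (fun j _ _ => C.comm_near hc (by omega) (by omega)) h
        have := hw.mul_right (show Commute (C.x 4) (s : G) from hc4).inv_right
        rw [mul_inv_cancel_right] at this
        exact (C.commute_shift (i := 1) (d := 3)).mp this.symm
    rcases C.mem_one hs21 with h | h
    · exact Or.inl (Subtype.ext h)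
    · exact Or.inr (Subtype.ext h)
  -- a character non-trivial at it
  set T := (C.X 0 4).subgroupOf H with hT
  have hTidx : T.index = C.q := by
    have e := T.card_mul_index
    rw [C.card_X_subgroupOf (by omega) (by omega), C.card_top, hm, Nat.mul_comm C.q] at e
    exact Nat.eq_of_mul_eq_mul_left (by norm_num) e
  let e0 := subgroupOfEquivOfLe (show C.X 0 4 ≤ H from C.X_le_top (by omega))
  let rr : C.X 0 4 := ⟨C.x 1 * C.x 2, mul_mem (x_mem _ (by omega) (by omega)) (x_mem _ (by omega) (by omega))⟩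
  let kk : C.X 0 4 := ⟨C.x 2, x_mem _ (by omega) (by omega)⟩
  have hrc : ∀ a : C.X 0 4, a * rr = rr * a := fun a => by
    apply Subtype.ext
    refine (commute_seg (y := C.x 1 * C.x 2) (fun j _ hj => ?_) a.2).eq.symm
    exact (C.comm_near hc (by omega) (by omega)).mul_left (C.comm_near hc (by omega) (by omega))
  have hr2 : rr * rr = 1 := Subtype.ext (by
    show C.x 1 * C.x 2 * (C.x 1 * C.x 2) = 1
    rw [c12.symm.mul_mul_mul_comm, C.sq, C.sq, one_mul])
  haveI : (zpowers rr).Normal := ⟨fun n hn a => by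
    obtain ⟨z, rfl⟩ := mem_zpowers_iff.mp hn
    rw [((show Commute a rr from hrc a).zpow_right z).eq, mul_inv_cancel_right]
    exact zpow_mem (mem_zpowers _) z⟩
  have hR : ∀ a : C.X 0 4, a ∈ zpowers rr → a = 1 ∨ a = rr := fun a ha => by
    obtain ⟨z, rfl⟩ := mem_zpowers_iff.mp ha
    rcases Int.even_or_odd' z with ⟨w, rfl | rfl⟩
    · left; rw [zpow_mul, zpow_two, hr2, one_zpow]
    · right; rw [zpow_add, zpow_mul, zpow_two, hr2, one_zpow, one_mul, zpow_one]
  have hsq : ∀ a : C.X 0 4, a * a = 1 ∨ a * a = rr := fun a => by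
    refine hR _ ((QuotientGroup.eq_one_iff _).mp ?_)
    refine sq_of_gens (s := C.x '' Set.Ico 0 (0 + 4)) (QuotientGroup.mk' (zpowers rr)) ?_ ?_ a
    · rintro _ ⟨i, -, rfl⟩
      refine (map_mul _ _ _).symm.trans ((QuotientGroup.eq_one_iff _).mpr ?_)
      refine mem_zpowers_iff.mpr ⟨0, Subtype.ext ?_⟩
      simp [C.sq]
    · rintro _ ⟨i, ⟨-, hi⟩, rfl⟩ _ ⟨j, ⟨-, hj⟩, rfl⟩
      by_cases hij : j ≤ i + 2 ∧ i ≤ j + 2
      · exact (show Commute (⟨C.x i, _⟩ : C.X 0 4) ⟨C.x j, _⟩ from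
          Subtype.ext (C.comm_near hc hij.1 hij.2).eq).map _
      refine (map_mul _ _ _).symm.trans (Eq.trans ?_ (map_mul _ _ _))
      apply QuotientGroup.eq.mpr
      rw [mem_zpowers_iff]
      rcases (show (i = 0 ∧ j = 3) ∨ (i = 3 ∧ j = 0) by omega) with ⟨rfl, rfl⟩ | ⟨rfl, rfl⟩
      · refine ⟨1, ?_⟩
        rw [zpow_one]; apply Subtype.ext
        show C.x 1 * C.x 2 = (C.x 0 * C.x 3)⁻¹ * (C.x 3 * C.x 0)
        rw [mul_inv_rev, C.inv_x, C.inv_x, ← mul_assoc (C.x 3 * C.x 0), ← cm, ← C.cm_inv 0 3, e03,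
          mul_inv_rev, C.inv_x, C.inv_x, c12.eq]
      · refine ⟨1, ?_⟩
        rw [zpow_one]; apply Subtype.ext
        show C.x 1 * C.x 2 = (C.x 3 * C.x 0)⁻¹ * (C.x 0 * C.x 3)
        rw [mul_inv_rev, C.inv_x, C.inv_x, ← e03, cm, ← mul_assoc]
  have hk1 : kk ≠ 1 := fun e => C.x_ne_one 2 (congrArg Subtype.val e)
  have hkr : kk ≠ rr := fun e => C.x_ne_one 1 (mul_eq_right.mp (congrArg Subtype.val e).symm)
  obtain ⟨ψ0, hψ0⟩ := LocalEven.AmalgamS4.Recognition.exists_character rr kk hr2 hrc hsq hk1 hkr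
  haveI : T.FiniteIndex := finiteIndex_iff.mpr (by rw [hTidx]; exact C.odd_q.pos.ne')
  obtain ⟨ψ, hψ⟩ := LocalEven.AmalgamS4.Recognition.exists_extension T
    (by rw [hTidx]; exact C.odd_q) (k := k) (mem_subgroupOf.mpr (x_mem _ (by omega) (by omega)))
    (Subtype.ext (C.sq 2)) hkc (ψ0.comp e0.toMonoidHom) hψ0
  refine ⟨⟨Q, hn, hab, C.index_X_subgroupOf (by omega) (by omega), u, v, Subtype.ext (C.sq 0),
    Subtype.ext (C.sq 4), ?_, hu', hy', hy3⟩, k, mem_subgroupOf.mpr h2,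
    by rw [C.card_X_subgroupOf (by omega) (by omega)]; rfl, Subtype.ext (C.sq 2), hkc, hZ, ψ, hψ⟩
  have := C.gen_top (by omega)
  simp only [hm] at this
  exact this

theorem quot_three [Finite G] (hm : C.m = 3)
    [(Cfsg.oddCore (seg C.x 0 (C.m + 1))).Normal] :
    Nonempty (seg C.x 0 (C.m + 1) ⧸ Cfsg.oddCore (seg C.x 0 (C.m + 1)) ≃* Equiv.Perm (Fin 4)) := by
  obtain ⟨F, hQ, hZ⟩ := C.frame_three hm
  exact F.quot_four C.odd_q hQ hZ

theorem quot_four [Finite G] (hm : C.m = 4)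
    [(Cfsg.oddCore (seg C.x 0 (C.m + 1))).Normal] :
    Nonempty (seg C.x 0 (C.m + 1) ⧸ Cfsg.oddCore (seg C.x 0 (C.m + 1)) ≃*
      Equiv.Perm (Fin 4) × Multiplicative (ZMod 2)) := by
  obtain ⟨F, k, hk, hQ, hk2, hkc, hZ, ψ, hψ⟩ := C.frame_four hm
  exact F.quot_prod C.odd_q hQ hk hk2 hkc hZ ψ hψ

theorem equiv_of_quot [Finite G] {B : Type*} [Group B]
    [hn : (Cfsg.oddCore (seg C.x 0 (C.m + 1))).Normal]
    (e : seg C.x 0 (C.m + 1) ⧸ Cfsg.oddCore (seg C.x 0 (C.m + 1)) ≃* B)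
    (hB : Nat.card B = Nat.card (seg C.x 0 (C.m + 1))) : Nonempty (seg C.x 0 (C.m + 1) ≃* B) := by
  have hbij : Function.Bijective (QuotientGroup.mk' (Cfsg.oddCore (seg C.x 0 (C.m + 1)))) :=
    (Nat.bijective_iff_surjective_and_card _).mpr
      ⟨QuotientGroup.mk'_surjective _, by rw [Nat.card_congr e.toEquiv, hB]⟩
  exact ⟨(MulEquiv.ofBijective _ hbij).trans e⟩

theorem structure_three [Finite G] (hm : C.m = 3) (hq3 : C.q = 3) :
    Nonempty (seg C.x 0 (C.m + 1) ≃* Equiv.Perm (Fin 4)) := by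
  haveI := CfsgLib.Involution.ZStar.oddCore_normal (G := seg C.x 0 (C.m + 1))
  obtain ⟨e⟩ := C.quot_three hm
  exact C.equiv_of_quot e (by rw [C.card_top, hm, hq3, Nat.card_perm, Nat.card_fin]; rfl)

theorem structure_four [Finite G] (hm : C.m = 4) (hq3 : C.q = 3) :
    Nonempty (seg C.x 0 (C.m + 1) ≃* Equiv.Perm (Fin 4) × Multiplicative (ZMod 2)) := by
  haveI := CfsgLib.Involution.ZStar.oddCore_normal (G := seg C.x 0 (C.m + 1))
  obtain ⟨e⟩ := C.quot_four hm
  refine C.equiv_of_quot e ?_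
  rw [C.card_top, hm, hq3, Nat.card_prod, Nat.card_perm, Nat.card_fin]
  simp [Nat.factorial]

theorem quot_two [Finite G] (hm : C.m = 2)
    [hnO : (Cfsg.oddCore (seg C.x 0 (C.m + 1))).Normal] :
    Nonempty (seg C.x 0 (C.m + 1) ⧸ Cfsg.oddCore (seg C.x 0 (C.m + 1)) ≃*
      Multiplicative (ZMod 2) × Multiplicative (ZMod 2)) := by
  set H := seg C.x 0 (C.m + 1) with hH
  set Q := (C.X 1 1).subgroupOf H with hQ
  have hc : C.Comm 1 := C.comm_one
  have c01 : Commute (C.x 0) (C.x 1) := C.comm_near hc (by omega) (by omega)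
  have c12 : Commute (C.x 1) (C.x 2) := C.comm_near hc (by omega) (by omega)
  haveI hn : Q.Normal := C.normal_X (by omega) fun a b ha hb1 hb2 => by
    rw [C.conj_of_commute (C.comm_near hc (by omega) (by omega))]; exact x_mem _ hb1 hb2
  let u : H := ⟨C.x 0, x_mem _ le_rfl (by omega)⟩
  let v : H := ⟨C.x 2, x_mem _ (by omega) (by omega)⟩
  have hindex : Q.index = 2 * C.q := C.index_X_subgroupOf (by omega) (by omega)
  let π := QuotientGroup.mk' Q
  have hne : ∀ j, j ≠ 1 → ∀ hj : C.x j ∈ H, C.x j ≠ C.x 1 → π ⟨C.x j, hj⟩ ≠ 1 := fun j _ hj hne h => by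
    rcases C.mem_one (mem_subgroupOf.mp ((QuotientGroup.eq_one_iff _).mp h)) with h' | h'
    · exact C.x_ne_one j h'
    · exact hne h'
  have hx01 : C.x 0 ≠ C.x 1 := fun e => C.not_mem_left (i := 0) (k := 1) (by omega)
    (e ▸ x_mem _ le_rfl (by omega))
  have hx21 : C.x 2 ≠ C.x 1 := fun e => C.not_mem_right (i := 1) (k := 1) (by omega)
    (e ▸ x_mem _ le_rfl (by omega))
  have hu : orderOf (π u) = 2 :=
    orderOf_eq_prime (by rw [pow_two, ← map_mul, show u * u = 1 from Subtype.ext (C.sq 0), map_one])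
      (hne 0 (by omega) _ hx01)
  have hv : orderOf (π v) = 2 :=
    orderOf_eq_prime (by rw [pow_two, ← map_mul, show v * v = 1 from Subtype.ext (C.sq 2), map_one])
      (hne 2 (by omega) _ hx21)
  have htop : closure ({π u, π v} : Set (H ⧸ Q)) = ⊤ := by
    have h := congrArg (Subgroup.map π) (C.gen_top (by omega))
    simp only [hm] at h
    rw [Subgroup.map_sup, (Subgroup.map_eq_bot_iff _).mpr (by rw [QuotientGroup.ker_mk']), bot_sup_eq,
      MonoidHom.map_closure, Set.image_pair, Subgroup.map_top_of_surjective _ (QuotientGroup.mk'_surjective Q)] at h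
    exact h
  have huv : π u ≠ π v := fun h => by
    rw [← h, Set.pair_eq_singleton, ← zpowers_eq_closure] at htop
    have h2 := congrArg (fun S : Subgroup (H ⧸ Q) => Nat.card S) htop
    simp only [Nat.card_zpowers, hu, Subgroup.card_top] at h2
    rw [← index_eq_card, hindex] at h2
    have hq1 : C.q = 1 := by omega
    -- then `H` would be its own segment
    have hcH : Nat.card H = 4 := by rw [C.card_top, hm, hq1]; rfl
    have hcl : C.X 0 2 = H := eq_of_le_of_card_ge (seg_mono C.x le_rfl (by omega))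
      (by rw [hcH, C.card_X 0 2 (by omega)]; norm_num)
    have hcl' : C.X 1 2 = H := eq_of_le_of_card_ge (seg_mono C.x (by omega) (by omega))
      (by rw [hcH, C.card_X 1 2 (by omega)]; norm_num)
    have hsh := C.map_conj_seg 0 2 1
    rw [zero_add, hcl, hcl', pow_one] at hsh
    have h3 : C.x 3 ∈ H := by
      rw [← hsh]; exact ⟨C.x 2, x_mem _ (by omega) (by omega), (C.shift 2).symm⟩
    have hbot := C.core H (by rw [hm]; exact hcl.ge) fun i hi n hn' => by
      have hxi : C.x i ∈ H := by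
        rcases (show i ≤ 2 ∨ i = 3 by omega) with h | rfl
        · exact x_mem _ (Nat.zero_le _) (by omega)
        · exact h3
      exact mul_mem (mul_mem hxi hn') hxi
    apply C.x_ne_one 0
    rw [← mem_bot, ← hbot]
    exact u.2
  obtain ⟨e⟩ := Cfsg.Agent.S0206.result _ _ hu hv huv
  have hy : orderOf (π (u * v)) = C.q := by
    have h := Nat.card_congr e.toEquiv
    rw [htop, Subgroup.card_top, ← index_eq_card, hindex, DihedralGroup.nat_card, ← map_mul] at h
    omega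
  set R := (zpowers (π (u * v))).comap π with hR
  have hR2 : R.index = 2 := by
    rw [hR, index_comap_of_surjective _ (QuotientGroup.mk'_surjective Q)]
    have h1 := (zpowers (π (u * v))).card_mul_index
    rw [Nat.card_zpowers, hy, ← index_eq_card, hindex, Nat.mul_comm 2] at h1
    exact Nat.eq_of_mul_eq_mul_left C.odd_q.pos h1
  have hQR : Q ≤ R := fun s hs => by
    rw [hR, mem_comap, show π s = 1 from (QuotientGroup.eq_one_iff s).mpr hs]; exact one_mem _
  haveI : R.Normal := Subgroup.normal_of_index_eq_two hR2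
  have hQc : ∀ g : H, ∀ s ∈ Q, s * g = g * s := fun g s hs => by
    apply Subtype.ext
    show (s : G) * g = g * s
    have hs' := mem_subgroupOf.mp hs
    exact ((commute_seg (fun b hb1 hb2 => ((commute_seg (fun j _ _ => C.comm_near hc (by omega) (by omega))
      g.2).symm)) hs').symm).eq
  have hodd : Odd (Q.relIndex R) := by
    have h1 := relIndex_mul_index hQR
    rw [hR2, hindex] at h1
    obtain ⟨i, hi⟩ := C.odd_q
    exact Nat.odd_iff.mpr (by omega)
  have hidx := oddCore_index Q R (a := 1) (C.card_X_subgroupOf (by omega) (by omega)) hQR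
    (fun g _ s hs => hQc g s hs) hodd (fun r hr =>
      CfsgLib.Involution.ZStar.mem_of_index_two hR2 (CfsgLib.Involution.ZStar.odd_orderOf_of_mem hr))
  rw [hR2, C.card_X_subgroupOf (by omega) (by omega), pow_one] at hidx
  have h4 : Nat.card (H ⧸ Cfsg.oddCore H) = 2 * 2 := by rw [← index_eq_card, hidx]
  -- the quotient is generated by involutions
  haveI : Fact (Nat.Prime 2) := ⟨Nat.prime_two⟩
  haveI : IsMulCommutative (H ⧸ Cfsg.oddCore H) :=
    IsPGroup.isMulCommutative_of_card_eq_prime_sq (p := 2) (by rw [h4]; rfl)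
  have hsq : ∀ z : H ⧸ Cfsg.oddCore H, z * z = 1 := fun z => by
    obtain ⟨z, rfl⟩ := QuotientGroup.mk'_surjective _ z
    refine sq_of_gens (s := C.x '' Set.Ico 0 (0 + (C.m + 1))) (QuotientGroup.mk' (Cfsg.oddCore H)) ?_ ?_ z
    · rintro _ ⟨i, -, rfl⟩
      refine (map_mul _ _ _).symm.trans ((congrArg _ (Subtype.ext (C.sq i))).trans (map_one _))
    · intros
      exact IsMulCommutative.is_comm.comm _ _
  haveI : IsKleinFour (H ⧸ Cfsg.oddCore H) := by
    refine ⟨by rw [h4], ?_⟩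
    haveI : Nontrivial (H ⧸ Cfsg.oddCore H) := Finite.one_lt_card_iff_nontrivial.mp (by omega)
    exact (Monoid.exponent_eq_prime_iff Nat.prime_two).mpr fun g hg =>
      orderOf_eq_prime (by rw [pow_two, hsq]) hg
  haveI : IsKleinFour (Multiplicative (ZMod 2) × Multiplicative (ZMod 2)) := by
    refine ⟨by simp [Nat.card_eq_fintype_card], ?_⟩
    have hz := sq_eq_one_zmod_two
    exact (Monoid.exponent_eq_prime_iff Nat.prime_two).mpr fun g hg =>
      orderOf_eq_prime (Prod.ext (hz g.1) (hz g.2)) hg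
  exact IsKleinFour.nonempty_mulEquiv

end Chain

/-- A group of order six with a non-normal subgroup of order two. -/
theorem mulEquiv_perm_three {H : Type*} [Group H] [Finite H] (L : Subgroup H) (h3 : L.index = 3)
    (h2 : Nat.card L = 2) (hn : ¬ L.Normal) : Nonempty (H ≃* Equiv.Perm (Fin 3)) := by
  have hcore : L.normalCore = ⊥ := by
    rcases (Nat.dvd_prime Nat.prime_two).mp (h2 ▸ card_dvd_of_le L.normalCore_le) with h | h
    · exact card_eq_one.mp h
    · have : L.normalCore = L := eq_of_le_of_card_ge L.normalCore_le (by rw [h, h2])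
      exact absurd (this ▸ L.normalCore_normal) hn
  have hinj : Function.Injective (MulAction.toPermHom H (H ⧸ L)) := by
    rw [← MonoidHom.ker_eq_bot_iff, ← normalCore_eq_ker, hcore]
  have hq : Nat.card (H ⧸ L) = 3 := h3
  have hcard : Nat.card H = Nat.card (Equiv.Perm (H ⧸ L)) := by
    rw [← L.card_mul_index, h2, h3, Nat.card_perm, hq]; rfl
  exact ⟨(MulEquiv.ofBijective _ ((Nat.bijective_iff_injective_and_card _).mpr ⟨hinj, hcard⟩)).trans
    (Equiv.permCongrHom (Finite.equivFinOfCardEq hq))⟩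

end CfsgLib.Perm.SubdegreeThree
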